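import Mathlib
import Cfsg.Agent.Lib.TwoGroups.Semidihedral

/-!
# Involutions of 2-groups that are products of two cyclic subgroups

`Bic a b`: the 2-group is `⟨a⟩⟨b⟩` with `⟨a⟩ ∩ ⟨b⟩ = 1`.  The main facts: an involution
`a^i b^j` with `i` even and `j` odd forces `b² = 1`; the central involutions of `⟨a⟩` and `⟨b⟩`
span a normal four-group; an involution with both exponents even lies in it.
-/

set_option autoImplicit false
set_option linter.style.haveILetI false

open Subgroup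
open scoped commutatorElement

namespace CfsgLib.CyclicZFact

universe u

/-- An odd power generates in a 2-group. -/
theorem mem_zpowers_zpow_of_odd {T : Type*} [Group T] (hP : IsPGroup 2 T) (g : T) {j : ℤ}
    (hj : Odd j) : g ∈ zpowers (g ^ j) := by
  obtain ⟨n, hn⟩ := hP g
  obtain ⟨k, rfl⟩ := hj
  have hc : IsCoprime (2 * k + 1) (2 : ℤ) := ⟨1, -k, by ring⟩
  obtain ⟨u, v, e⟩ := hc.pow_right (n := n)
  refine ⟨u, ?_⟩
  show (g ^ (2 * k + 1)) ^ u = g
  have h2 : g ^ ((2 : ℤ) ^ n) = 1 := by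
    rw [show ((2 : ℤ) ^ n) = ((2 ^ n : ℕ) : ℤ) by push_cast; rfl, zpow_natCast, hn]
  calc (g ^ (2 * k + 1)) ^ u = g ^ ((2 * k + 1) * u) := by rw [← zpow_mul]
    _ = g ^ ((2 * k + 1) * u) * (g ^ ((2 : ℤ) ^ n)) ^ v := by rw [h2, one_zpow, mul_one]
    _ = g ^ (u * (2 * k + 1) + v * 2 ^ n) := by rw [← zpow_mul, ← zpow_add]; ring_nf
    _ = g := by rw [e, zpow_one]

/-- A cyclic group has at most one involution. -/
theorem invol_unique {T : Type*} [Group T] [Finite T] {a x y : T} (hx : x ∈ zpowers a)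
    (hy : y ∈ zpowers a) (hxx : x * x = 1) (hyy : y * y = 1) (hx1 : x ≠ 1) (hy1 : y ≠ 1) :
    x = y := by
  classical
  let _ := Fintype.ofFinite T
  by_contra hne
  have h := IsCyclic.card_pow_eq_one_le (α := zpowers a) (n := 2) two_pos
  have h3 : ({1, ⟨x, hx⟩, ⟨y, hy⟩} : Finset (zpowers a)).card ≤ 2 := by
    refine (Finset.card_le_card ?_).trans h
    intro z hz
    simp only [Finset.mem_insert, Finset.mem_singleton] at hz
    simp only [Finset.mem_filter, Finset.mem_univ, true_and]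
    rcases hz with rfl | rfl | rfl
    · exact one_pow 2
    · exact Subtype.ext (by simp [pow_two, hxx])
    · exact Subtype.ext (by simp [pow_two, hyy])
  rw [Finset.card_insert_of_notMem, Finset.card_pair] at h3
  · omega
  · exact fun e => hne (congrArg Subtype.val e)
  · simp only [Finset.mem_insert, Finset.mem_singleton, not_or]
    exact ⟨fun e => hx1 (congrArg Subtype.val e).symm, fun e => hy1 (congrArg Subtype.val e).symm⟩

/-- A 2-group that is the product of two cyclic subgroups with trivial intersection. -/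
structure Bic {T : Type*} [Group T] (a b : T) : Prop where
  isP : IsPGroup 2 T
  fact : ∀ g : T, ∃ i j : ℤ, g = a ^ i * b ^ j
  inj : ∀ i j : ℤ, a ^ i = b ^ j → a ^ i = 1

namespace Bic

section Basic

variable {T : Type*} [Group T] {a b : T}

theorem inj_right (h : Bic a b) {i j : ℤ} (e : a ^ i = b ^ j) : b ^ j = 1 :=
  e ▸ h.inj i j e

theorem swap (h : Bic a b) : Bic b a where
  isP := h.isP
  fact g := by
    obtain ⟨i, j, e⟩ := h.fact g⁻¹
    exact ⟨-j, -i, by rw [_root_.zpow_neg, _root_.zpow_neg, ← mul_inv_rev, ← e, inv_inv]⟩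
  inj i j e := h.inj_right e.symm

theorem uniq (h : Bic a b) {i j k l : ℤ} (e : a ^ i * b ^ j = a ^ k * b ^ l) :
    a ^ i = a ^ k ∧ b ^ j = b ^ l := by
  have e' : a ^ (-k + i) = b ^ (l + -j) := by
    rw [zpow_add, zpow_add, _root_.zpow_neg, _root_.zpow_neg]
    calc (a ^ k)⁻¹ * a ^ i = (a ^ k)⁻¹ * (a ^ i * b ^ j) * (b ^ j)⁻¹ := by group
      _ = b ^ l * (b ^ j)⁻¹ := by rw [e]; group
  have h1 := h.inj _ _ e'
  have h2 := h.inj_right e'
  rw [zpow_add, _root_.zpow_neg, inv_mul_eq_one] at h1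
  rw [zpow_add, _root_.zpow_neg, mul_inv_eq_one] at h2
  exact ⟨h1.symm, h2.symm⟩

theorem zpow_mem_index_two {H : Subgroup T} (hH : H.index = 2) {g : T} (hg : g ∉ H) (i : ℤ) :
    g ^ i ∈ H ↔ Even i := by
  have h2 : g * g ∈ H := mul_self_mem_of_index_two hH g
  have he : ∀ k : ℤ, g ^ (k + k) = (g * g) ^ k := fun k => by
    rw [zpow_add, ← (Commute.refl g).mul_zpow]
  rcases Int.even_or_odd i with ⟨k, rfl⟩ | ⟨k, rfl⟩
  · exact iff_of_true (by rw [he]; exact zpow_mem h2 k) ⟨k, rfl⟩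
  · refine iff_of_false (fun hm => hg ?_) (by simp)
    rw [zpow_add, zpow_one, two_mul, he] at hm
    exact (H.mul_mem_cancel_left (zpow_mem h2 k)).1 hm

theorem mem_iff {H : Subgroup T} (hH : H.index = 2) (hb : b ∈ H) (ha : a ∉ H) (i j : ℤ) :
    a ^ i * b ^ j ∈ H ↔ Even i := by
  rw [H.mul_mem_cancel_right (zpow_mem hb j), zpow_mem_index_two hH ha]

/-- The index two subgroup containing `b` but not `a`. -/
theorem exists_half [Finite T] (h : Bic a b) (ha : a ≠ 1) :
    ∃ H : Subgroup T, H.index = 2 ∧ b ∈ H ∧ a ∉ H := by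
  haveI : Fact (Nat.Prime 2) := ⟨Nat.prime_two⟩
  have hne : zpowers b ≠ ⊤ := fun e => by
    obtain ⟨j, hj⟩ := (e ▸ mem_top a : a ∈ zpowers b)
    have := h.inj 1 j (by rw [zpow_one]; exact hj.symm)
    exact ha (by simpa using this)
  obtain ⟨H, hH, hle⟩ := (eq_top_or_exists_le_coatom (zpowers b)).resolve_left hne
  refine ⟨H, TwoGroups.SD.index_of_isCoatom h.isP hH, hle (mem_zpowers b), fun haH => hH.1 ?_⟩
  refine eq_top_iff.2 fun g _ => ?_
  obtain ⟨i, j, rfl⟩ := h.fact g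
  exact mul_mem (zpow_mem haH i) (zpow_mem (hle (mem_zpowers b)) j)

theorem half (h : Bic a b) {H : Subgroup T} (hH : H.index = 2) (hb : b ∈ H) (ha : a ∉ H) :
    Bic (⟨a * a, mul_self_mem_of_index_two hH a⟩ : H) (⟨b, hb⟩ : H) where
  isP := h.isP.to_subgroup H
  fact g := by
    obtain ⟨i, j, e⟩ := h.fact g
    obtain ⟨k, rfl⟩ := (mem_iff hH hb ha i j).1 (e ▸ g.2)
    refine ⟨k, j, Subtype.ext ?_⟩
    rw [e, Subgroup.coe_mul, coe_zpow, coe_zpow, (Commute.refl a).mul_zpow, ← zpow_add]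
  inj i j e := by
    have e' := congrArg Subtype.val e
    simp only [coe_zpow, (Commute.refl a).mul_zpow, ← zpow_add] at e'
    exact Subtype.ext (by
      simpa [coe_zpow, (Commute.refl a).mul_zpow, ← zpow_add] using h.inj _ _ e')

/-- No power of `a` is conjugate to a power of `b`. -/
theorem eq_one_of_conj (h : Bic a b) {x y g : T} (hx : x ∈ zpowers a) (hy : y ∈ zpowers b)
    (e : g * x * g⁻¹ = y) : x = 1 := by
  obtain ⟨i, rfl⟩ := hx
  obtain ⟨j, rfl⟩ := hy
  obtain ⟨q, p, rfl⟩ := h.swap.fact g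
  change b ^ q * a ^ p * a ^ i * (b ^ q * a ^ p)⁻¹ = b ^ j at e
  have e1 : a ^ i = (b ^ q)⁻¹ * b ^ j * b ^ q := by
    rw [← e, show b ^ q * a ^ p * a ^ i * (b ^ q * a ^ p)⁻¹
      = b ^ q * (a ^ p * a ^ i * (a ^ p)⁻¹) * (b ^ q)⁻¹ by group,
      ((Commute.refl a).zpow_zpow p i).eq]
    group
  rw [← _root_.zpow_neg, ← zpow_add, ← zpow_add] at e1
  exact h.inj _ _ e1

end Basic

/-- The key lemma: with `b = a^(2k) x`, `x` an involution, `b²` is a power of `a`. -/
theorem sq_mem_zpowers_aux (n : ℕ) : ∀ (T : Type u) [Group T] [Finite T], Nat.card T = n →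
    IsPGroup 2 T → ∀ (a x : T) (k : ℤ), x * x = 1 →
    (∀ g : T, ∃ i j : ℤ, g = a ^ i * (a ^ (2 * k) * x) ^ j) →
    a ^ (2 * k) * x * (a ^ (2 * k) * x) ∈ zpowers a := by
  induction n using Nat.strong_induction_on with
  | _ n ih =>
  intro T _ _ hn hP a x k hx hfact
  subst hn
  haveI : Fact (Nat.Prime 2) := ⟨Nat.prime_two⟩
  cases subsingleton_or_nontrivial T with
  | inl h => rw [Subsingleton.elim (a ^ (2 * k) * x * (a ^ (2 * k) * x)) 1]; exact one_mem _
  | inr h =>
  set b := a ^ (2 * k) * x with hb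
  haveI := hP.center_nontrivial
  obtain ⟨m, hm⟩ := (hP.to_subgroup (center T)).exists_card_eq
  have hm0 : m ≠ 0 := by
    rintro rfl
    have := Finite.one_lt_card (α := center T)
    rw [hm, pow_zero] at this
    omega
  obtain ⟨⟨z, hzc⟩, hz⟩ := exists_prime_orderOf_dvd_card' (G := center T) 2
    (hm ▸ dvd_pow_self 2 hm0)
  rw [orderOf_mk] at hz
  have hzz : z * z = 1 := by rw [← pow_two, ← hz, pow_orderOf_eq_one]
  set Z := zpowers z with hZ
  have hZc : ∀ y ∈ Z, ∀ g : T, g * y = y * g := fun y hy g =>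
    mem_center_iff.1 ((zpowers_le.2 hzc) hy) g
  haveI hZn : Z.Normal := ⟨fun y hy g => by rw [hZc y hy g, mul_inv_cancel_right]; exact hy⟩
  let q := QuotientGroup.mk' Z
  have hlt : Nat.card (T ⧸ Z) < Nat.card T := by
    have e := Subgroup.card_eq_card_quotient_mul_card_subgroup Z
    have h2 : Nat.card Z = 2 := by rw [hZ, Nat.card_zpowers, hz]
    rw [h2] at e
    have : 0 < Nat.card (T ⧸ Z) := Nat.card_pos
    omega
  have hq := ih _ hlt (T ⧸ Z) rfl (hP.to_quotient Z) (q a) (q x) k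
    (by rw [← map_mul, hx, map_one])
    (fun g => by
      obtain ⟨g, rfl⟩ := QuotientGroup.mk'_surjective Z g
      obtain ⟨i, j, e⟩ := hfact g
      exact ⟨i, j, by rw [← map_zpow, ← map_zpow, ← map_mul, ← map_zpow, ← map_mul, ← e]⟩)
  -- `AZ` contains `b²`
  set AZ := zpowers a ⊔ Z with hAZ
  have haAZ : a ∈ AZ := mem_sup_left (mem_zpowers a)
  have hbb : b * b ∈ AZ := by
    obtain ⟨i, hi⟩ := hq
    have hi' : q (a ^ i) = q (b * b) := by
      rw [map_zpow, show (q a) ^ i = _ from hi]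
      simp only [hb, map_mul, map_zpow]
    have hmem : (a ^ i)⁻¹ * (b * b) ∈ Z := QuotientGroup.eq.1 hi'
    rw [← mul_inv_cancel_left (a ^ i) (b * b)]
    exact mul_mem (zpow_mem haAZ i) (mem_sup_right hmem)
  have hbab : b * a * b⁻¹ ∈ AZ := by
    obtain ⟨i, j, e⟩ := hfact (b * a * b⁻¹)
    have he : ∀ l : ℤ, b ^ (l + l) = (b * b) ^ l := fun l => by
      rw [zpow_add, ← (Commute.refl b).mul_zpow]
    rcases Int.even_or_odd j with ⟨l, rfl⟩ | ⟨l, rfl⟩
    · rw [e, he]; exact mul_mem (zpow_mem haAZ i) (zpow_mem hbb l)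
    · rw [zpow_add, zpow_one, two_mul, he] at e
      have hα : a ^ i * (b * b) ^ l * (b * b) ∈ AZ :=
        mul_mem (mul_mem (zpow_mem haAZ i) (zpow_mem hbb l)) hbb
      have hbm : b ∈ AZ := by
        have e2 : b = a ^ i * (b * b) ^ l * (b * b) * a⁻¹ := by
          calc b = b * a * b⁻¹ * b * a⁻¹ := by group
            _ = _ := by rw [e]; group
        rw [e2]
        exact mul_mem hα (inv_mem haAZ)
      exact mul_mem (mul_mem hbm haAZ) (inv_mem hbm)
  have hdec : ∀ y ∈ AZ, ∃ r : ℤ, ∃ z' ∈ Z, y = a ^ r * z' := by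
    intro y hy
    rw [← SetLike.mem_coe, hAZ, Subgroup.mul_normal] at hy
    obtain ⟨_, ⟨r, rfl⟩, z', hz', rfl⟩ := hy
    exact ⟨r, z', hz', rfl⟩
  obtain ⟨r, z', hz', hr⟩ := hdec _ hbab
  have hxa : x * a * x⁻¹ = a ^ r * z' := by
    have hc : Commute (a ^ (2 * k)) (a ^ r * z') :=
      ((Commute.refl a).zpow_zpow _ _).mul_right (hZc z' hz' _)
    calc x * a * x⁻¹ = (a ^ (2 * k))⁻¹ * (b * a * b⁻¹) * a ^ (2 * k) := by rw [hb]; group
      _ = (a ^ (2 * k))⁻¹ * (a ^ (2 * k) * (a ^ r * z')) := by rw [hr, hc.eq]; group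
      _ = a ^ r * z' := by group
  have hxs : x * a ^ (2 * k) * x⁻¹ = a ^ (r * (2 * k)) := by
    rw [show x * a ^ (2 * k) * x⁻¹ = (x * a * x⁻¹) ^ (2 * k) from conj_zpow.symm, hxa]
    have hc : Commute (a ^ r) z' := hZc z' hz' _
    obtain ⟨e, rfl⟩ := hz'
    show (a ^ r * z ^ e) ^ (2 * k) = _
    rw [hc.mul_zpow, ← zpow_mul, ← zpow_mul, show e * (2 * k) = (e * k) + (e * k) by ring,
      zpow_add, ← (Commute.refl z).mul_zpow, hzz, one_zpow, mul_one]
  have : b * b = a ^ (2 * k) * a ^ (r * (2 * k)) := by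
    rw [← hxs, hb, inv_eq_of_mul_eq_one_right hx]
    group
  rw [this]
  exact mul_mem (zpow_mem (mem_zpowers a) _) (zpow_mem (mem_zpowers a) _)

variable {T : Type u} [Group T] [Finite T] {a b : T}

/-- An involution `a^i b^j` with `i` even and `j` odd forces `b² = 1`. -/
theorem sq_eq_one_of_involution (h : Bic a b) {i j : ℤ} (hi : Even i) (hj : Odd j)
    (hx : a ^ i * b ^ j * (a ^ i * b ^ j) = 1) : b * b = 1 := by
  obtain ⟨k, rfl⟩ := hi
  set x := a ^ (k + k) * b ^ j with hxd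
  have hb : a ^ (2 * (-k)) * x = b ^ j := by
    rw [hxd, ← mul_assoc, ← zpow_add, show 2 * (-k) + (k + k) = 0 by ring, zpow_zero, one_mul]
  have hgen := mem_zpowers_zpow_of_odd h.isP b hj
  obtain ⟨p, hp⟩ := sq_mem_zpowers_aux (Nat.card T) T rfl h.isP a x (-k) hx (fun g => by
    obtain ⟨s, t, rfl⟩ := h.fact g
    obtain ⟨m, hm⟩ := hgen
    refine ⟨s, m * t, ?_⟩
    rw [hb, zpow_mul]
    exact congrArg (fun y => a ^ s * y ^ t) hm.symm)
  have hp' : a ^ p = b ^ j * b ^ j := by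
    have hp'' : a ^ p = a ^ (2 * (-k)) * x * (a ^ (2 * (-k)) * x) := hp
    rwa [hb] at hp''
  have h1 := h.inj p (j + j) (by rw [zpow_add]; exact hp')
  rw [h1] at hp'
  obtain ⟨m, hm⟩ := hgen
  rw [← hm]
  show (b ^ j) ^ m * (b ^ j) ^ m = 1
  rw [← (Commute.refl (b ^ j)).mul_zpow, ← hp', one_zpow]

/-- The involution of a cyclic group of order at least four is a square. -/
theorem exists_sq_zpow (hP : IsPGroup 2 T) {g v : T} (hg : g * g ≠ 1) (hv : v ∈ zpowers g)
    (hvv : v * v = 1) : ∃ k : ℤ, v = (g * g) ^ k := by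
  obtain ⟨i, rfl⟩ := hv
  rcases Int.even_or_odd i with ⟨k, rfl⟩ | hi
  · exact ⟨k, show g ^ (k + k) = _ by rw [zpow_add, ← (Commute.refl g).mul_zpow]⟩
  · refine absurd ?_ hg
    obtain ⟨m, hm⟩ := mem_zpowers_zpow_of_odd hP g hi
    rw [← hm]
    show (g ^ i) ^ m * (g ^ i) ^ m = 1
    rw [← (Commute.refl (g ^ i)).mul_zpow]
    exact (congrArg (· ^ m) hvv).trans (one_zpow m)

theorem exists_invol {g : T} (hP : IsPGroup 2 T) (hg : g ≠ 1) :
    ∃ v ∈ zpowers g, v * v = 1 ∧ v ≠ 1 := by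
  haveI : Fact (Nat.Prime 2) := ⟨Nat.prime_two⟩
  obtain ⟨m, hm⟩ := (hP.to_subgroup (zpowers g)).exists_card_eq
  have hm0 : m ≠ 0 := by
    rintro rfl
    rw [Nat.card_zpowers, pow_zero, orderOf_eq_one_iff] at hm
    exact hg hm
  obtain ⟨⟨v, hv⟩, ho⟩ := exists_prime_orderOf_dvd_card' (G := zpowers g) 2 (hm ▸ dvd_pow_self 2 hm0)
  rw [orderOf_mk] at ho
  exact ⟨v, hv, by rw [← pow_two, ← ho, pow_orderOf_eq_one],
    fun e => by rw [e, orderOf_one] at ho; omega⟩

theorem card_lt_of_index_two {H : Subgroup T} (hH : H.index = 2) : Nat.card H < Nat.card T := by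
  have e := H.card_mul_index
  rw [hH] at e
  have : 0 < Nat.card H := Nat.card_pos
  omega

theorem commute_invol_aux (n : ℕ) : ∀ (T : Type u) [Group T] [Finite T], Nat.card T = n →
    ∀ (a b : T), Bic a b → ∀ x ∈ zpowers a, ∀ y ∈ zpowers b, x * x = 1 → y * y = 1 →
    Commute x y := by
  induction n using Nat.strong_induction_on with
  | _ n ih =>
  intro T _ _ hn a b h x hx y hy hxx hyy
  subst hn
  have step : ∀ (a b : T), Bic a b → a * a ≠ 1 → ∀ x ∈ zpowers a, ∀ y ∈ zpowers b, x * x = 1 →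
      y * y = 1 → Commute x y := by
    intro a b h ha x hx y hy hxx hyy
    obtain ⟨H, hH, hb, haH⟩ := h.exists_half (fun e => ha (by rw [e, one_mul]))
    obtain ⟨k, hk⟩ := exists_sq_zpow h.isP ha hx hxx
    obtain ⟨l, rfl⟩ := hy
    have hxH : x ∈ H := hk ▸ zpow_mem (mul_self_mem_of_index_two hH a) k
    have := ih _ (card_lt_of_index_two hH) H rfl _ _ (h.half hH hb haH) ⟨x, hxH⟩
      ⟨k, Subtype.ext (by simp [hk])⟩ ⟨b ^ l, zpow_mem hb l⟩ ⟨l, Subtype.ext (by simp)⟩
      (Subtype.ext (by simpa using hxx)) (Subtype.ext (by simpa using hyy))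
    exact congrArg Subtype.val this.eq
  by_cases ha : a * a = 1
  swap
  · exact step a b h ha x hx y hy hxx hyy
  by_cases hb : b * b = 1
  swap
  · exact (step b a h.swap hb y hy x hx hyy hxx).symm
  have hpow : ∀ (g : T), g * g = 1 → ∀ i : ℤ, g ^ i = 1 ∨ g ^ i = g := fun g hg i => by
    rcases Int.even_or_odd i with ⟨k, rfl⟩ | ⟨k, rfl⟩
    · left; rw [zpow_add, ← (Commute.refl g).mul_zpow, hg, one_zpow]
    · right; rw [zpow_add, zpow_one, two_mul, zpow_add, ← (Commute.refl g).mul_zpow, hg,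
        one_zpow, one_mul]
  have hab : Commute a b := by
    obtain ⟨i, j, e⟩ := h.fact (b * a)
    rcases hpow a ha i with hi | hi <;> rcases hpow b hb j with hj | hj <;> rw [hi, hj] at e
    · rw [one_mul] at e
      have e' : a = b := by rw [← inv_eq_of_mul_eq_one_right e, inv_eq_of_mul_eq_one_right hb]
      rw [e']
    · rw [one_mul] at e
      rw [mul_eq_left.1 e]; exact Commute.one_left _
    · rw [mul_one] at e
      rw [mul_eq_right.1 e]; exact Commute.one_right _
    · exact e.symm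
  obtain ⟨i, rfl⟩ := hx
  obtain ⟨j, rfl⟩ := hy
  exact hab.zpow_zpow i j

/-- The two central involutions of the factors commute. -/
theorem commute_invol (h : Bic a b) {x y : T} (hx : x ∈ zpowers a) (hy : y ∈ zpowers b)
    (hxx : x * x = 1) (hyy : y * y = 1) : Commute x y :=
  commute_invol_aux _ T rfl a b h x hx y hy hxx hyy

theorem conj_invol_aux (n : ℕ) : ∀ (T : Type u) [Group T] [Finite T], Nat.card T = n →
    ∀ (a b : T), Bic a b → a * a ≠ 1 → b * b ≠ 1 → ∀ u ∈ zpowers a, ∀ w ∈ zpowers b,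
    u * u = 1 → u ≠ 1 → w * w = 1 → w ≠ 1 → b * u * b⁻¹ = u ∨ b * u * b⁻¹ = u * w := by
  induction n using Nat.strong_induction_on with
  | _ n ih =>
  intro T _ _ hn a b h ha hb u hu w hw huu hu1 hww hw1
  subst hn
  have ha1 : a ≠ 1 := fun e => ha (by rw [e, one_mul])
  obtain ⟨H, hH, hbH, haH⟩ := h.exists_half ha1
  obtain ⟨k, hk⟩ := exists_sq_zpow h.isP ha hu huu
  have huH : u ∈ H := hk ▸ zpow_mem (mul_self_mem_of_index_two hH a) k
  by_cases h4 : a * a * (a * a) = 1
  swap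
  · obtain ⟨l, rfl⟩ := hw
    have := ih _ (card_lt_of_index_two hH) H rfl _ _ (h.half hH hbH haH)
      (fun e => h4 (congrArg Subtype.val e)) (fun e => hb (congrArg Subtype.val e))
      ⟨u, huH⟩ ⟨k, Subtype.ext (by simp [hk])⟩ ⟨b ^ l, zpow_mem hbH l⟩
      ⟨l, Subtype.ext (by simp)⟩ (Subtype.ext (by simpa using huu))
      (fun e => hu1 (congrArg Subtype.val e)) (Subtype.ext (by simpa using hww))
      (fun e => hw1 (congrArg Subtype.val e))
    exact this.imp (congrArg Subtype.val) (congrArg Subtype.val)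
  have hua : u = a * a := invol_unique hu ⟨2, by show a ^ (2 : ℤ) = _; exact zpow_two a⟩ huu h4 hu1 ha
  haveI := normal_of_index_eq_two hH
  set y := b * u * b⁻¹ with hy
  have hyy : y * y = 1 := by
    rw [hy, show b * u * b⁻¹ * (b * u * b⁻¹) = b * (u * u) * b⁻¹ by group, huu, mul_one,
      mul_inv_cancel]
  have hyH : y ∈ H := ‹H.Normal›.conj_mem u huH b
  obtain ⟨p, q, hpq⟩ := h.fact y
  have hp : Even p := (mem_iff hH hbH haH p q).1 (hpq ▸ hyH)
  have hpu : a ^ p = 1 ∨ a ^ p = u := by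
    obtain ⟨l, rfl⟩ := hp
    have he : a ^ (l + l) = u ^ l := by rw [zpow_add, ← (Commute.refl a).mul_zpow, hua]
    rw [he]
    rcases Int.even_or_odd l with ⟨c, rfl⟩ | ⟨c, rfl⟩
    · left; rw [zpow_add, ← (Commute.refl u).mul_zpow, huu, one_zpow]
    · right; rw [zpow_add, zpow_one, two_mul, zpow_add, ← (Commute.refl u).mul_zpow, huu,
        one_zpow, one_mul]
  rcases hpu with hpu | hpu
  · exfalso
    rw [hpu, one_mul] at hpq
    exact hu1 (h.eq_one_of_conj hu ⟨q, rfl⟩ hpq)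
  have hq : Even q := by
    by_contra hq
    rw [hpq] at hyy
    exact hb (h.sq_eq_one_of_involution hp (Int.not_even_iff_odd.1 hq) hyy)
  rw [hpu] at hpq
  -- `d := b^q` is the commutator; it is inverted by `u`
  have hubu : u * b * u = b ^ (q + 1) := by
    calc u * b * u = u * (b * u * b⁻¹) * b := by group
      _ = u * u * b ^ q * b := by rw [← hy, hpq]; group
      _ = b ^ (q + 1) := by rw [huu, one_mul, zpow_add, zpow_one]
  have hconj : ∀ s : ℤ, u * b ^ s * u = b ^ ((q + 1) * s) := fun s => by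
    have huinv : u⁻¹ = u := inv_eq_of_mul_eq_one_right huu
    rw [zpow_mul, ← hubu]
    conv_rhs => rw [show u * b * u = u * b * u⁻¹ by rw [huinv]]
    rw [conj_zpow, huinv]
  have hN : b ^ ((q + 2) * q) = 1 := by
    rw [hpq, show u * b ^ q * (u * b ^ q) = u * b ^ q * u * b ^ q by group, hconj, ← zpow_add] at hyy
    rwa [show (q + 2) * q = (q + 1) * q + q by ring]
  obtain ⟨l, rfl⟩ := hq
  rcases Int.even_or_odd l with hl | hl
  · -- then `d² = 1`
    have hodd : Odd (l + 1) := hl.add_one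
    obtain ⟨c, hc⟩ := mem_zpowers_zpow_of_odd h.isP (b ^ (4 * l)) hodd
    have hd : b ^ (4 * l) = 1 := by
      rw [← hc]
      show ((b ^ (4 * l)) ^ (l + 1)) ^ c = 1
      rw [← zpow_mul b (4 * l), show 4 * l * (l + 1) = (l + l + 2) * (l + l) by ring, hN, one_zpow]
    by_cases hd1 : b ^ (l + l) = 1
    · left; rw [hpq, hd1, mul_one]
    · right
      have hdw : b ^ (l + l) = w := invol_unique ⟨l + l, rfl⟩ hw
        (show b ^ (l + l) * b ^ (l + l) = 1 by
          rw [← zpow_add, show l + l + (l + l) = 4 * l by ring, hd]) hww hd1 hw1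
      rw [hpq, hdw]
  · -- impossible: `a` would induce a square root of the automorphism
    exfalso
    obtain ⟨c, rfl⟩ := hl
    set N := orderOf b with hNdef
    have hord4 : 4 ∣ N := by
      obtain ⟨e, he⟩ := h.isP b
      obtain ⟨f, -, hf⟩ := (Nat.dvd_prime_pow Nat.prime_two).1 (orderOf_dvd_of_pow_eq_one he)
      rw [← hNdef] at hf
      rcases le_or_gt 2 f with h2 | h2
      · rw [hf]; exact pow_dvd_pow 2 h2
      · exfalso; apply hb
        have hd : N ∣ 2 := by rw [hf]; exact (pow_dvd_pow 2 (show f ≤ 1 by omega))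
        rw [← pow_two]; exact orderOf_dvd_iff_pow_eq_one.1 hd
    set t := a * b * a⁻¹ with ht
    have htH : t ∈ H := ‹H.Normal›.conj_mem b hbH a
    have hau : Commute a u := by rw [hua]; exact (Commute.refl a).mul_right (Commute.refl a)
    set r : ℤ := 2 * c + 1 + (2 * c + 1) + 1 with hr
    have hutu : u * t * u = t ^ r := by
      rw [ht, conj_zpow, ← hubu]
      calc u * (a * b * a⁻¹) * u = u * a * b * (a⁻¹ * u) := by group
        _ = a * (u * b * u) * a⁻¹ := by rw [← hau.eq, hau.inv_left.eq]; group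
    obtain ⟨e, j, hej⟩ := h.fact t
    obtain ⟨e', rfl⟩ := (mem_iff hH hbH haH e j).1 (hej ▸ htH)
    have he : a ^ (e' + e') = u ^ e' := by rw [zpow_add, ← (Commute.refl a).mul_zpow, hua]
    rw [he] at hej
    rcases Int.even_or_odd e' with ⟨f, rfl⟩ | ⟨f, rfl⟩
    · -- `a` normalises `⟨b⟩`
      rw [zpow_add, ← (Commute.refl u).mul_zpow, huu, one_zpow, one_mul] at hej
      have hsq : b ^ (j * j) = b ^ r := by
        rw [← hubu, zpow_mul, ← hej, ht, conj_zpow, ← hej, ht]
        conv_rhs => rw [hua]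
        rw [show a * a * b * (a * a) = a * a * b * (a * a)⁻¹ by
          rw [inv_eq_of_mul_eq_one_right (hua ▸ huu)]]
        group
      rw [zpow_eq_zpow_iff_modEq, Int.modEq_iff_dvd, ← hNdef] at hsq
      have h44 : (4 : ℤ) ∣ r - j * j := (Int.natCast_dvd_natCast.2 hord4).trans hsq
      rcases Int.even_or_odd j with ⟨g, rfl⟩ | ⟨g, rfl⟩
      · have : (4 : ℤ) ∣ r := by
          have h4 : (4 : ℤ) ∣ (g + g) * (g + g) := ⟨g * g, by ring⟩
          simpa using dvd_add h44 h4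
        rw [hr] at this; omega
      · have : (4 : ℤ) ∣ r - 1 := by
          have h4 : (4 : ℤ) ∣ (2 * g + 1) * (2 * g + 1) - 1 := ⟨g * g + g, by ring⟩
          have := dvd_add h44 h4
          rwa [show r - (2 * g + 1) * (2 * g + 1) + ((2 * g + 1) * (2 * g + 1) - 1) = r - 1 by ring]
            at this
        rw [hr] at this; omega
    · -- the order of a conjugate of `b` drops
      rw [zpow_add, zpow_one, two_mul, zpow_add, ← (Commute.refl u).mul_zpow, huu, one_zpow,
        one_mul] at hej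
      have htt : t * t = b ^ ((r + 1) * j) := by
        rw [hej, show u * b ^ j * (u * b ^ j) = u * b ^ j * u * b ^ j by group, hconj, ← zpow_add]
        congr 1
        rw [hr]; ring
      have hto : orderOf t = N := by
        rw [ht, show a * b * a⁻¹ = MulAut.conj a b from rfl, MulEquiv.orderOf_eq]
      obtain ⟨M, hM⟩ := hord4
      have hM0 : 0 < M := by
        rcases Nat.eq_zero_or_pos M with hM0 | hM0
        · rw [hM0, mul_zero] at hM; exact absurd hM (orderOf_pos b).ne'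
        · exact hM0
      have hpow : t ^ (2 * M) = 1 := by
        rw [pow_mul, pow_two, htt, ← zpow_natCast, ← zpow_mul,
          show (r + 1) * j * (M : ℤ) = (N : ℤ) * ((c + 1) * j) by
            rw [hr, hM]; push_cast; ring,
          zpow_mul, zpow_natCast, pow_orderOf_eq_one, one_zpow]
      have := Nat.le_of_dvd (by omega) (orderOf_dvd_of_pow_eq_one hpow)
      rw [hto, hM] at this
      omega

/-- Conjugates of the involution of `⟨a⟩`. -/
theorem conj_invol (h : Bic a b) (ha : a * a ≠ 1) (hb : b * b ≠ 1) {u w : T} (hu : u ∈ zpowers a)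
    (hw : w ∈ zpowers b) (huu : u * u = 1) (hu1 : u ≠ 1) (hww : w * w = 1) (hw1 : w ≠ 1) (g : T) :
    g * u * g⁻¹ = u ∨ g * u * g⁻¹ = u * w := by
  have hb' := conj_invol_aux _ T rfl a b h ha hb u hu w hw huu hu1 hww hw1
  have hbw : b * w * b⁻¹ = w := by
    obtain ⟨l, rfl⟩ := hw
    rw [((Commute.refl b).zpow_right l).eq, mul_inv_cancel_right]
  obtain ⟨q, p, rfl⟩ := h.swap.fact g
  have hfix : a ^ p * u * (a ^ p)⁻¹ = u := by
    obtain ⟨l, rfl⟩ := hu
    rw [((Commute.refl a).zpow_zpow p l).eq, mul_inv_cancel_right]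
  rw [show b ^ q * a ^ p * u * (b ^ q * a ^ p)⁻¹ = b ^ q * (a ^ p * u * (a ^ p)⁻¹) * (b ^ q)⁻¹ by
    group, hfix]
  obtain ⟨n, hn⟩ : ∃ n : ℕ, b ^ q = b ^ n :=
    let ⟨n, hn⟩ := ((isOfFinOrder_of_finite b).mem_powers_iff_mem_zpowers.2 ⟨q, rfl⟩)
    ⟨n, hn.symm⟩
  rw [hn]
  clear hn
  induction n with
  | zero => left; simp
  | succ n ih =>
    rw [pow_succ', show b * b ^ n * u * (b * b ^ n)⁻¹ = b * (b ^ n * u * (b ^ n)⁻¹) * b⁻¹ by group]
    rcases ih with e | e <;> rw [e]
    · exact hb'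
    · rw [show b * (u * w) * b⁻¹ = b * u * b⁻¹ * (b * w * b⁻¹) by group, hbw]
      rcases hb' with e' | e' <;> rw [e']
      · right; rfl
      · left; rw [mul_assoc, hww, mul_one]

theorem sq_of_even_even_aux (n : ℕ) : ∀ (T : Type u) [Group T] [Finite T], Nat.card T = n →
    ∀ (a b : T), Bic a b → ∀ i j : ℤ, Even i → Even j →
    a ^ i * b ^ j * (a ^ i * b ^ j) = 1 → a ^ i * a ^ i = 1 ∧ b ^ j * b ^ j = 1 := by
  induction n using Nat.strong_induction_on with
  | _ n ih =>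
  intro T _ _ hn a b h i j hi hj hx
  subst hn
  by_cases ha1 : a = 1
  · subst ha1
    simp only [one_zpow, one_mul] at hx ⊢
    exact ⟨trivial, hx⟩
  obtain ⟨H, hH, hbH, haH⟩ := h.exists_half ha1
  obtain ⟨p, rfl⟩ := hi
  have he : a ^ (p + p) = (a * a) ^ p := by rw [zpow_add, ← (Commute.refl a).mul_zpow]
  rw [he] at hx ⊢
  set a' : H := ⟨a * a, mul_self_mem_of_index_two hH a⟩
  set b' : H := ⟨b, hbH⟩
  have hx' : a' ^ p * b' ^ j * (a' ^ p * b' ^ j) = 1 :=
    Subtype.ext (by simpa [a', b'] using hx)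
  rcases Int.even_or_odd p with hp | hp
  · obtain ⟨e1, e2⟩ := ih _ (card_lt_of_index_two hH) H rfl a' b' (h.half hH hbH haH) p j hp hj hx'
    exact ⟨by simpa [a'] using congrArg Subtype.val e1, by simpa [b'] using congrArg Subtype.val e2⟩
  have hi' : b' ^ (-j) * a' ^ (-p) * (b' ^ (-j) * a' ^ (-p)) = 1 := by
    rw [_root_.zpow_neg, _root_.zpow_neg, ← mul_inv_rev, ← mul_inv_rev, hx', inv_one]
  have h4' := (h.half hH hbH haH).swap.sq_eq_one_of_involution hj.neg hp.neg hi'
  have h4 : a * a * (a * a) = 1 := congrArg Subtype.val h4'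
  have hpa : (a * a) ^ p = a * a := by
    obtain ⟨c, rfl⟩ := hp
    rw [zpow_add, zpow_one, two_mul, zpow_add, ← (Commute.refl (a * a)).mul_zpow, h4, one_zpow,
      one_mul]
  rw [hpa] at hx ⊢
  refine ⟨h4, ?_⟩
  by_cases hu1 : a * a = 1
  · simpa [hu1] using hx
  obtain ⟨c, rfl⟩ := hj
  by_cases hb : b * b = 1
  · rw [zpow_add, ← (Commute.refl b).mul_zpow, hb, one_zpow, one_mul]
  obtain ⟨w, hw, hww, hw1⟩ := exists_invol h.isP (show b ≠ 1 from fun e => hb (by rw [e, one_mul]))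
  have hcomm : Commute (a * a) (b * b) := by
    have hcj : b * b * (a * a) * (b * b)⁻¹ = a * a := by
      have hbw : b * w * b⁻¹ = w := by
        obtain ⟨l, rfl⟩ := hw
        rw [((Commute.refl b).zpow_right l).eq, mul_inv_cancel_right]
      rw [show b * b * (a * a) * (b * b)⁻¹ = b * (b * (a * a) * b⁻¹) * b⁻¹ by group]
      rcases h.conj_invol hu1 hb ⟨2, by show a ^ (2 : ℤ) = _; exact zpow_two a⟩ hw h4 hu1 hww hw1 b with e | e
      · rw [e, e]
      · rw [e, show b * (a * a * w) * b⁻¹ = b * (a * a) * b⁻¹ * (b * w * b⁻¹) by group, hbw, e,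
          mul_assoc, hww, mul_one]
    exact (mul_inv_eq_iff_eq_mul.1 hcj).symm
  have hc : Commute (a * a) (b ^ (c + c)) := by
    rw [zpow_add, ← (Commute.refl b).mul_zpow]; exact hcomm.zpow_right c
  rw [show a * a * b ^ (c + c) * (a * a * b ^ (c + c))
    = a * a * (b ^ (c + c) * (a * a)) * b ^ (c + c) by group, ← hc.eq, ← mul_assoc, h4, one_mul]
    at hx
  exact hx

/-- An involution with both exponents even is a product of involutions of the factors. -/
theorem sq_of_even_even (h : Bic a b) {i j : ℤ} (hi : Even i) (hj : Even j)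
    (hx : a ^ i * b ^ j * (a ^ i * b ^ j) = 1) : a ^ i * a ^ i = 1 ∧ b ^ j * b ^ j = 1 :=
  sq_of_even_even_aux _ T rfl a b h i j hi hj hx

end Bic

end CfsgLib.CyclicZFact
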