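import Mathlib
import Cfsg.Agent.Lib.CyclicZFact.Bicyclic
import Cfsg.Agent.Lib.Solvable.Factorization

/-!
# At most two classes of involutions with both exponents odd
-/

set_option autoImplicit false
set_option linter.style.haveILetI false

open Subgroup
open scoped commutatorElement

namespace CfsgLib.CyclicZFact

universe u

namespace Bic

variable {T : Type u} [Group T] [Finite T] {a b : T}

omit [Finite T] in
theorem eq_top_of_mem (h : Bic a b) {x : T} {i j : ℤ} (hj : Odd j) (e : x = a ^ i * b ^ j)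
    {K : Subgroup T} (ha : a ∈ K) (hx : x ∈ K) : K = ⊤ := by
  have hbj : b ^ j ∈ K := by
    rw [show b ^ j = (a ^ i)⁻¹ * x by rw [e]; group]
    exact mul_mem (inv_mem (zpow_mem ha i)) hx
  have hb : b ∈ K := (zpowers_le.2 hbj) (mem_zpowers_zpow_of_odd h.isP b hj)
  refine eq_top_iff.2 fun g _ => ?_
  obtain ⟨s, t, rfl⟩ := h.fact g
  exact mul_mem (zpow_mem ha s) (zpow_mem hb t)

omit [Finite T] in
/-- An involution `a^i b^j` with `j` odd is not central unless `b² = 1`. -/
theorem not_mem_center (h : Bic a b) (hb : b * b ≠ 1) {i j : ℤ} (hj : Odd j)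
    (hx : a ^ i * b ^ j * (a ^ i * b ^ j) = 1) : a ^ i * b ^ j ∉ center T := by
  intro hc
  have htop := h.eq_top_of_mem hj rfl (K := centralizer {a})
    (mem_centralizer_singleton_iff.2 rfl)
    (mem_centralizer_singleton_iff.2 (mem_center_iff.1 hc a).symm)
  have hab : Commute a b :=
    (mem_centralizer_singleton_iff.1 (htop ▸ mem_top b : b ∈ centralizer {a})).symm
  have hsq : a ^ (i + i) * b ^ (j + j) = a ^ (0 : ℤ) * b ^ (0 : ℤ) := by
    rw [zpow_zero, zpow_zero, one_mul, zpow_add, zpow_add]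
    calc a ^ i * a ^ i * (b ^ j * b ^ j) = a ^ i * (a ^ i * b ^ j) * b ^ j := by group
      _ = a ^ i * (b ^ j * a ^ i) * b ^ j := by rw [(hab.zpow_zpow i j).eq]
      _ = a ^ i * b ^ j * (a ^ i * b ^ j) := by group
      _ = 1 := hx
  have h2 : b ^ j * b ^ j = 1 := by rw [← zpow_add, (h.uniq hsq).2, zpow_zero]
  obtain ⟨m, hm⟩ := mem_zpowers_zpow_of_odd h.isP b hj
  apply hb
  rw [← hm]
  show (b ^ j) ^ m * (b ^ j) ^ m = 1
  rw [← (Commute.refl (b ^ j)).mul_zpow, h2, one_zpow]

theorem commutator_mul_comm (h : Bic a b) {p q : T} (hp : p ∈ commutator T)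
    (hq : q ∈ commutator T) : p * q = q * p := by
  have h2 : derivedSeries T 2 = ⊥ := CfsgLib.Factorization.ito (zpowers a) (zpowers b)
    (fun g => by
      obtain ⟨i, j, e⟩ := h.fact g
      exact ⟨a ^ i, ⟨i, rfl⟩, b ^ j, ⟨j, rfl⟩, e⟩)
  rw [show (2 : ℕ) = 1 + 1 from rfl, derivedSeries_succ, derivedSeries_one,
    commutator_eq_bot_iff_le_centralizer] at h2
  exact mem_centralizer_iff.1 (h2 hq) p hp

/-- Conjugacy inside a coset of the derived group. -/
theorem isConj_of_inv_mul_mem (h : Bic a b) (ha : a ≠ 1) (hb : b ≠ 1) {x y : T} {i j : ℤ}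
    (hj : Odd j) (e : x = a ^ i * b ^ j) (hxx : x * x = 1) (hy : x⁻¹ * y ∈ commutator T) :
    IsConj x y := by
  classical
  haveI : Fact (Nat.Prime 2) := ⟨Nat.prime_two⟩
  set H := commutator T with hH
  have hxi : x⁻¹ = x := inv_eq_of_mul_eq_one_right hxx
  let C : ℤ → T := fun k => ⁅x, a ^ k⁆
  have hCH : ∀ k, C k ∈ H := fun k => commutator_mem_commutator (mem_top _) (mem_top _)
  have hCadd : ∀ k l, C (k + l) = C k * (a ^ k * C l * (a ^ k)⁻¹) := fun k l => by
    simp only [C, commutatorElement_def, zpow_add]; group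
  have hxC : ∀ k, x * C k * x⁻¹ = (C k)⁻¹ := fun k => by
    simp only [C, commutatorElement_def]
    calc x * (x * a ^ k * x⁻¹ * (a ^ k)⁻¹) * x⁻¹
        = x * x * (a ^ k * x⁻¹ * (a ^ k)⁻¹ * x⁻¹) := by group
      _ = _ := by simp [hxx, hxi, mul_assoc]
  set L := closure (Set.range C) with hL
  have hLH : L ≤ H := (closure_le _).2 (by rintro _ ⟨k, rfl⟩; exact hCH k)
  have haL : ∀ p ∈ L, a * p * a⁻¹ ∈ L := by
    intro p hp
    induction hp using closure_induction with
    | mem p hp =>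
      obtain ⟨k, rfl⟩ := hp
      have := hCadd 1 k
      rw [zpow_one] at this
      rw [show a * C k * a⁻¹ = (C 1)⁻¹ * C (1 + k) by rw [this]; group]
      exact mul_mem (inv_mem (subset_closure ⟨1, rfl⟩)) (subset_closure ⟨1 + k, rfl⟩)
    | one => simp
    | mul p q _ _ hp hq =>
      rw [show a * (p * q) * a⁻¹ = a * p * a⁻¹ * (a * q * a⁻¹) by group]; exact mul_mem hp hq
    | inv p _ hp => rw [show a * p⁻¹ * a⁻¹ = (a * p * a⁻¹)⁻¹ by group]; exact inv_mem hp
  have hxinv : ∀ p ∈ L, x * p * x⁻¹ = p⁻¹ := by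
    intro p hp
    induction hp using closure_induction with
    | mem p hp => obtain ⟨k, rfl⟩ := hp; exact hxC k
    | one => simp
    | mul p q hp' hq' hp hq =>
      rw [show x * (p * q) * x⁻¹ = x * p * x⁻¹ * (x * q * x⁻¹) by group, hp, hq, ← mul_inv_rev,
        h.commutator_mul_comm (hLH hq') (hLH hp')]
    | inv p _ hp => rw [show x * p⁻¹ * x⁻¹ = (x * p * x⁻¹)⁻¹ by group, hp]
  haveI hHn : H.Normal := by rw [hH, _root_.commutator_def]; infer_instance
  haveI hLn : L.Normal := normalizer_eq_top_iff.1 <| h.eq_top_of_mem hj e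
    (mem_normalizer_fintype haL)
    (mem_normalizer_fintype fun p hp => by rw [hxinv p hp]; exact inv_mem hp)
  have hHL : H ≤ L := by
    let q := QuotientGroup.mk' L
    have hax : q a * q x = q x * q a := by
      have h1 : q (C 1) = 1 := (QuotientGroup.eq_one_iff _).2 (subset_closure ⟨1, rfl⟩)
      simp only [C, zpow_one, map_commutatorElement, commutatorElement_eq_one_iff_mul_comm] at h1
      exact h1.symm
    have hca : ∀ g, q g * q a = q a * q g := fun g => by
      have := h.eq_top_of_mem hj e (K := (centralizer {q a}).comap q)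
        (mem_comap.2 (mem_centralizer_singleton_iff.2 rfl))
        (mem_comap.2 (mem_centralizer_singleton_iff.2 hax.symm))
      exact mem_centralizer_singleton_iff.1 (mem_comap.1 (this ▸ mem_top g))
    have hcx : ∀ g, q g * q x = q x * q g := fun g => by
      have := h.eq_top_of_mem hj e (K := (centralizer {q x}).comap q)
        (mem_comap.2 (mem_centralizer_singleton_iff.2 hax))
        (mem_comap.2 (mem_centralizer_singleton_iff.2 rfl))
      exact mem_centralizer_singleton_iff.1 (mem_comap.1 (this ▸ mem_top g))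
    have hall : ∀ g₁ g₂, q g₁ * q g₂ = q g₂ * q g₁ := fun g₁ g₂ => by
      have := h.eq_top_of_mem hj e (K := (centralizer {q g₂}).comap q)
        (mem_comap.2 (mem_centralizer_singleton_iff.2 (hca g₂).symm))
        (mem_comap.2 (mem_centralizer_singleton_iff.2 (hcx g₂).symm))
      exact mem_centralizer_singleton_iff.1 (mem_comap.1 (this ▸ mem_top g₁))
    rw [hH, _root_.commutator_def, commutator_le]
    intro g₁ _ g₂ _
    refine (QuotientGroup.eq_one_iff _).1 ?_
    show q ⁅g₁, g₂⁆ = 1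
    rw [map_commutatorElement, commutatorElement_eq_one_iff_mul_comm]
    exact hall g₁ g₂
  -- squares in `H`
  let sq : H →* H :=
    { toFun := fun p => p * p
      map_one' := one_mul 1
      map_mul' := fun p q => Subtype.ext (by
        simp only [Subgroup.coe_mul]
        calc (p : T) * q * (p * q) = p * (q * p) * q := by group
          _ = p * (p * q) * q := by rw [h.commutator_mul_comm q.2 p.2]
          _ = p * p * (q * q) := by group) }
  set S := sq.range with hS
  haveI hSn : S.Normal := ⟨fun p hp g => by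
    rw [show g * p * g⁻¹ = p by
      rw [show g * p = p * g from Subtype.ext (h.commutator_mul_comm g.2 p.2),
        mul_inv_cancel_right]]
    exact hp⟩
  have hker : Nat.card sq.ker ≤ 4 := by
    obtain ⟨u, hu, huu, hu1⟩ := exists_invol h.isP ha
    obtain ⟨w, hw, hww, hw1⟩ := exists_invol h.isP hb
    obtain ⟨Ka, hKa, hbKa, haKa⟩ := h.exists_half ha
    obtain ⟨Kb, hKb, haKb, hbKb⟩ := h.swap.exists_half hb
    let F : Finset T := {1, u, w, u * w}
    have hmem : ∀ p : sq.ker, ((p : H) : T) ∈ F := by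
      rintro ⟨⟨p, hp⟩, hk⟩
      have hpp : p * p = 1 := congrArg Subtype.val hk
      obtain ⟨s, t, rfl⟩ := h.fact p
      have hs : Even s := (mem_iff hKa hbKa haKa s t).1
        (TwoGroups.SD.commutator_le_of_index_two hKa hp)
      have ht : Even t := (zpow_mem_index_two hKb hbKb t).1 <| (Kb.mul_mem_cancel_left
        (zpow_mem haKb s)).1 (TwoGroups.SD.commutator_le_of_index_two hKb hp)
      obtain ⟨e1, e2⟩ := h.sq_of_even_even hs ht hpp
      have c1 : a ^ s = 1 ∨ a ^ s = u := or_iff_not_imp_left.2 fun hne =>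
        invol_unique ⟨s, rfl⟩ hu e1 huu hne hu1
      have c2 : b ^ t = 1 ∨ b ^ t = w := or_iff_not_imp_left.2 fun hne =>
        invol_unique ⟨t, rfl⟩ hw e2 hww hne hw1
      rcases c1 with c1 | c1 <;> rcases c2 with c2 | c2 <;> simp [F, c1, c2]
    have hF : F.card ≤ 4 := Finset.card_le_four
    refine le_trans ?_ hF
    rw [← Nat.card_eq_finsetCard]
    exact Nat.card_le_card_of_injective (fun p => (⟨_, hmem p⟩ : F))
      (fun p q e => Subtype.ext (Subtype.ext (congrArg Subtype.val e :)))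
  have hidx : Nat.card (H ⧸ S) ≤ 4 := by
    refine le_trans (le_of_eq ?_) hker
    have e1 := S.card_eq_card_quotient_mul_card_subgroup
    have e2 := sq.ker.card_eq_card_quotient_mul_card_subgroup
    rw [Nat.card_congr (QuotientGroup.quotientKerEquivRange sq).toEquiv, ← hS] at e2
    rw [mul_comm (Nat.card S)] at e2
    exact Nat.eq_of_mul_eq_mul_right Nat.card_pos (e1.symm.trans e2)
  let qH := QuotientGroup.mk' S
  let D : ℤ → H ⧸ S := fun k => qH ⟨C k, hCH k⟩
  have hconjS : ∀ (g : T) (p : H), p ∈ S →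
      (⟨g * p * g⁻¹, hHn.conj_mem _ p.2 g⟩ : H) ∈ S := by
    rintro g _ ⟨t, rfl⟩
    exact ⟨⟨g * t * g⁻¹, hHn.conj_mem _ t.2 g⟩,
      Subtype.ext (show g * t * g⁻¹ * (g * t * g⁻¹) = g * ((t : T) * t) * g⁻¹ by group)⟩
  have hD0 : D 0 = 1 := by
    rw [← map_one qH]
    exact congrArg qH (Subtype.ext (by simp [C]))
  have hDadd : ∀ k l, D l = 1 → D (k + l) = D k := fun k l hl => by
    have hlS : (⟨C l, hCH l⟩ : H) ∈ S := (QuotientGroup.eq_one_iff _).1 hl
    rw [show D (k + l) = D k * qH ⟨_, hHn.conj_mem _ (hCH l) (a ^ k)⟩ by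
      rw [← map_mul]; exact congrArg qH (Subtype.ext (hCadd k l)),
      show qH ⟨_, hHn.conj_mem _ (hCH l) (a ^ k)⟩ = 1 from
        (QuotientGroup.eq_one_iff _).2 (hconjS _ _ hlS), mul_one]
  have hDeq : ∀ k l, D k = D l → D (l - k) = 1 := fun k l he => by
    have h1 : qH ⟨_, hHn.conj_mem _ (hCH (l - k)) (a ^ k)⟩ = 1 := by
      have h2 : D k * qH ⟨_, hHn.conj_mem _ (hCH (l - k)) (a ^ k)⟩
          = D k := by
        rw [← map_mul]
        exact (congrArg qH (Subtype.ext (by
          simp only [Subgroup.coe_mul]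
          rw [← hCadd, add_sub_cancel]))).trans he.symm
      exact mul_eq_left.1 h2
    refine (QuotientGroup.eq_one_iff _).2 ?_
    have h3 := hconjS (a ^ k)⁻¹ _ ((QuotientGroup.eq_one_iff _).1 h1)
    convert h3 using 1
    exact Subtype.ext (by group)
  let Kz : AddSubgroup ℤ :=
    { carrier := {k | D k = 1}
      zero_mem' := hD0
      add_mem' := fun {k l} hk hl => (hDadd k l hl).trans hk
      neg_mem' := fun {k} hk => by
        have := hDeq k 0 (hk.trans hD0.symm)
        rwa [zero_sub] at this }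
  have hperiod : ∀ k l, l ∈ Kz → D (k + l) = D k := hDadd
  have hcover : ∀ p : H, ∃ k, D k = qH p := by
    have hclo : ∀ (R : Subgroup (H ⧸ S)), (∀ k, D k ∈ R) → ∀ p : H, qH p ∈ R := by
      intro R hR p
      have key : ∀ p (hp : p ∈ L), qH ⟨p, hLH hp⟩ ∈ R := by
        intro p hp
        induction hp using closure_induction with
        | mem p hp => obtain ⟨k, rfl⟩ := hp; exact hR k
        | one => exact one_mem R
        | mul p q hp' hq' hp hq =>
          show qH (⟨p, hLH hp'⟩ * ⟨q, hLH hq'⟩) ∈ R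
          rw [map_mul]; exact mul_mem hp hq
        | inv p hp' hp =>
          show qH (⟨p, hLH hp'⟩⁻¹) ∈ R
          rw [map_inv]; exact inv_mem hp
      exact key p.1 (hHL p.2)
    by_cases h2 : (2 : ℤ) ∈ Kz
    · intro p
      have hR : ∀ k, D k ∈ zpowers (D 1) := fun k => by
        rcases Int.even_or_odd k with ⟨m, rfl⟩ | ⟨m, rfl⟩
        · rw [show m + m = 0 + m • (2 : ℤ) by simp; ring, hperiod _ _ (zsmul_mem h2 m), hD0]
          exact one_mem _
        · rw [show 2 * m + 1 = 1 + m • (2 : ℤ) by simp; ring, hperiod _ _ (zsmul_mem h2 m)]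
          exact mem_zpowers _
      obtain ⟨n, hn⟩ := hclo _ hR p
      have hsq : D 1 * D 1 = 1 := by
        rw [← map_mul]; exact (QuotientGroup.eq_one_iff _).2 ⟨⟨C 1, hCH 1⟩, rfl⟩
      have hn' : D 1 ^ n = qH p := hn
      rcases Int.even_or_odd n with ⟨m, rfl⟩ | ⟨m, rfl⟩
      · refine ⟨0, ?_⟩
        rw [← hn', hD0, zpow_add, ← (Commute.refl (D 1)).mul_zpow, hsq, one_zpow]
      · refine ⟨1, ?_⟩
        rw [← hn', zpow_add, zpow_one, two_mul, zpow_add, ← (Commute.refl (D 1)).mul_zpow, hsq,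
          one_zpow, one_mul]
    have h1 : (1 : ℤ) ∉ Kz := fun h1 => h2 (by simpa using add_mem h1 h1)
    have h3 : (3 : ℤ) ∉ Kz := fun h3 => by
      obtain ⟨n, hn⟩ := h.isP a
      have hn' : ((2 : ℤ) ^ n) ∈ Kz := by
        show D ((2 : ℤ) ^ n) = 1
        rw [← map_one qH]
        refine congrArg qH (Subtype.ext ?_)
        simp only [C]
        rw [show ((2 : ℤ) ^ n) = ((2 ^ n : ℕ) : ℤ) by push_cast; rfl, zpow_natCast, hn,
          commutatorElement_one_right]
        rfl
      have hc : IsCoprime (3 : ℤ) (2 : ℤ) := ⟨1, -1, by norm_num⟩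
      obtain ⟨u, v, euv⟩ := hc.pow_right (n := n)
      exact h1 (euv ▸ by simpa using add_mem (zsmul_mem h3 u) (zsmul_mem hn' v))
    let f : Fin 4 → H ⧸ S := fun k => D (k : ℕ)
    have hf : Function.Injective f := by
      intro k l he
      have hd : ((l : ℕ) : ℤ) - (k : ℕ) ∈ Kz := hDeq _ _ he
      have hd' : ((k : ℕ) : ℤ) - (l : ℕ) ∈ Kz := by simpa using neg_mem hd
      fin_cases k <;> fin_cases l <;> first | rfl | (exfalso; norm_num at hd hd'; tauto)
    have hbij := hf.bijective_of_nat_card_le (by simpa using hidx)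
    intro p
    obtain ⟨k, hk⟩ := hbij.2 (qH p)
    exact ⟨_, hk⟩
  obtain ⟨k, hk⟩ := hcover ⟨x⁻¹ * y, hy⟩
  obtain ⟨⟨t, htH⟩, ht⟩ := QuotientGroup.eq.1 hk
  have ht' : t * t = (C k)⁻¹ * (x⁻¹ * y) := congrArg Subtype.val ht
  refine isConj_iff.2 ⟨t⁻¹ * a ^ k, ?_⟩
  have hxt : t⁻¹ * x = x * t := by
    have := hxinv t (hHL htH)
    rw [← this]
    calc x * t * x⁻¹ * x = x * t := by group
      _ = _ := rfl
  have hax : a ^ k * x * (a ^ k)⁻¹ = x * C k := by
    simp only [C, commutatorElement_def]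
    calc a ^ k * x * (a ^ k)⁻¹ = x * x * (a ^ k * x * (a ^ k)⁻¹) := by rw [hxx, one_mul]
      _ = _ := by rw [hxi]; group
  calc t⁻¹ * a ^ k * x * (t⁻¹ * a ^ k)⁻¹ = t⁻¹ * (a ^ k * x * (a ^ k)⁻¹) * t := by group
    _ = t⁻¹ * x * C k * t := by rw [hax]; group
    _ = x * (t * C k) * t := by rw [hxt]; group
    _ = x * C k * (t * t) := by rw [h.commutator_mul_comm htH (hCH k)]; group
    _ = y := by rw [ht']; group

/-- Among three involutions with both exponents odd two are conjugate. -/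
theorem exists_isConj (h : Bic a b) (ha : a ≠ 1) (hb : b ≠ 1) (y : Fin 3 → T)
    (hy : ∀ k, y k * y k = 1 ∧ ∃ i j : ℤ, Odd i ∧ Odd j ∧ y k = a ^ i * b ^ j) :
    ∃ k l, k ≠ l ∧ IsConj (y k) (y l) := by
  classical
  obtain ⟨hxx, i₀, j₀, hi₀, hj₀, ex⟩ := hy 0
  set x := y 0 with hx
  set H := commutator T with hH
  obtain ⟨Ka, hKa, hbKa, haKa⟩ := h.exists_half ha
  obtain ⟨Kb, hKb, haKb, hbKb⟩ := h.swap.exists_half hb
  let q := QuotientGroup.mk' H
  have hcomm : ∀ g g' : T, q g * q g' = q g' * q g := fun g g' => by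
    rw [← commutatorElement_eq_one_iff_mul_comm, ← map_commutatorElement]
    exact (QuotientGroup.eq_one_iff _).2 (commutator_mem_commutator (mem_top _) (mem_top _))
  haveI hZn : (zpowers (q a)).Normal := ⟨fun z hz g => by
    obtain ⟨g, rfl⟩ := QuotientGroup.mk'_surjective H g
    obtain ⟨n, rfl⟩ := hz
    rw [show q g * q a ^ n * (q g)⁻¹ = q a ^ n by
      rw [← map_zpow, hcomm, mul_inv_cancel_right]]
    exact ⟨n, rfl⟩⟩
  have key : ∀ k, ∃ s : T ⧸ H, s ∈ zpowers (q a) ∧ s * s = 1 ∧ q (y k) = q x * s := by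
    intro k
    obtain ⟨hyy, i, j, hi, hj, e⟩ := hy k
    have hmem : q (y k) ∈ zpowers (q x) ⊔ zpowers (q a) := by
      have := h.eq_top_of_mem hj₀ ex (K := (zpowers (q x) ⊔ zpowers (q a)).comap q)
        (mem_comap.2 (mem_sup_right (mem_zpowers _))) (mem_comap.2 (mem_sup_left (mem_zpowers _)))
      exact mem_comap.1 (this ▸ mem_top (y k))
    rw [← SetLike.mem_coe, Subgroup.mul_normal] at hmem
    obtain ⟨_, ⟨t, rfl⟩, _, ⟨s, rfl⟩, ht⟩ := hmem
    have ht' : q x ^ t * q a ^ s = q (y k) := ht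
    have hxsq : q x * q x = 1 := by rw [← map_mul, hxx, map_one]
    rcases Int.even_or_odd t with ⟨m, rfl⟩ | ⟨m, rfl⟩
    · exfalso
      rw [zpow_add, ← (Commute.refl (q x)).mul_zpow, hxsq, one_zpow, one_mul, ← map_zpow] at ht'
      have h1 : (a ^ s)⁻¹ * y k ∈ Kb :=
        TwoGroups.SD.commutator_le_of_index_two hKb (QuotientGroup.eq.1 ht')
      rw [Kb.mul_mem_cancel_left (inv_mem (zpow_mem haKb s)), e,
        Kb.mul_mem_cancel_left (zpow_mem haKb i), zpow_mem_index_two hKb hbKb] at h1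
      exact Int.not_even_iff_odd.2 hj h1
    · rw [zpow_add, zpow_one, two_mul, zpow_add, ← (Commute.refl (q x)).mul_zpow, hxsq, one_zpow,
        one_mul] at ht'
      refine ⟨q a ^ s, ⟨s, rfl⟩, ?_, ht'.symm⟩
      have h2 : q (y k) * q (y k) = 1 := by rw [← map_mul, hyy, map_one]
      rw [← ht'] at h2
      calc q a ^ s * q a ^ s = q x * q x * (q a ^ s * q a ^ s) := by rw [hxsq, one_mul]
        _ = q x * (q x * q a ^ s) * q a ^ s := by group
        _ = q x * (q a ^ s * q x) * q a ^ s := by rw [← map_zpow, hcomm]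
        _ = 1 := by rw [← h2]; group
  choose s hs hss hys using key
  obtain ⟨k, l, hkl, he⟩ := Fintype.exists_ne_map_eq_of_card_lt (fun k => decide (s k = 1))
    (by simp)
  refine ⟨k, l, hkl, ?_⟩
  have hsl : s k = s l := by
    simp only [decide_eq_decide] at he
    by_cases h1 : s k = 1
    · rw [h1, he.1 h1]
    · exact invol_unique (hs k) (hs l) (hss k) (hss l) h1 (fun e => h1 (he.2 e))
  obtain ⟨hkk, i, j, hi, hj, e⟩ := hy k
  exact h.isConj_of_inv_mul_mem ha hb hj e hkk (QuotientGroup.eq.1 (by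
    show q (y k) = q (y l)
    rw [hys k, hys l, hsl]))

end Bic

end CfsgLib.CyclicZFact
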