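import Mathlib
import Cfsg.Agent.Lib.RankTwoTypes.Simple
import Cfsg.Agent.Lib.Structure.SolvableRadical
import Cfsg.Agent.Lib.PF.OddOrder

/-!
# Groups without solvable normal subgroups and with small elementary abelian 2-subgroups

Such a group has a simple normal subgroup with trivial centralizer.
-/

set_option autoImplicit false
set_option linter.style.haveILetI false

open Subgroup

namespace CfsgLib.CyclicZFact

universe u

variable {G : Type u} [Group G] [Finite G]

theorem eq_bot_of_solvable (hR : Cfsg.solvableRadical G = ⊥) {N : Subgroup G} (hN : N.Normal)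
    (h : Group.IsSolvable N) : N = ⊥ :=
  le_bot_iff.1 (hR ▸ CfsgLib.Structure.le_solvableRadical hN h)

theorem radical_of_isSubnormal (hR : Cfsg.solvableRadical G = ⊥) {K : Subgroup G}
    (hK : K.IsSubnormal) : Cfsg.solvableRadical K = ⊥ := by
  have hn : (Cfsg.solvableRadical K).Normal := CfsgLib.Structure.solvableRadical_normal
  have hs : ((Cfsg.solvableRadical K).map K.subtype).IsSubnormal :=
    Subgroup.IsSubnormal.trans' hn.isSubnormal hK
  haveI := CfsgLib.Structure.isSolvable_solvableRadical (G := K)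
  have h := CfsgLib.Structure.le_solvableRadical_of_isSubnormal hs
    (Group.isSolvable_of_surjective (MonoidHom.subgroupMap_surjective K.subtype _))
  rw [hR, le_bot_iff] at h
  exact map_eq_bot_iff_of_injective _ K.subtype_injective |>.1 h

/-- A nontrivial group without solvable normal subgroups has two commuting involutions. -/
theorem exists_two_involutions [Nontrivial G] (hR : Cfsg.solvableRadical G = ⊥) :
    ∃ s t : G, orderOf s = 2 ∧ orderOf t = 2 ∧ s ≠ t ∧ Commute s t := by
  haveI : Fact (Nat.Prime 2) := ⟨Nat.prime_two⟩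
  have heven : 2 ∣ Nat.card G := by
    by_contra h
    have hs : Group.IsSolvable (⊤ : Subgroup G) := CfsgLib.PF.oddSolvable _ (by
      rw [card_top, ← Nat.not_even_iff_odd, even_iff_two_dvd]; exact h)
    exact top_ne_bot (eq_bot_of_solvable hR inferInstance hs)
  obtain ⟨z, hz⟩ := exists_prime_orderOf_dvd_card' 2 heven
  by_contra hno
  push Not at hno
  have hiso : Cfsg.IsIsolatedInvolution z := ⟨hz, fun g hg => by
    by_contra hne
    exact hno z (g * z * g⁻¹) hz
      (by rw [← MulAut.conj_apply, MulEquiv.orderOf_eq, hz]) (Ne.symm hne) hg⟩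
  have hcore : Cfsg.pPrimeCore 2 G = ⊥ := by
    refine eq_bot_of_solvable hR inferInstance (CfsgLib.PF.oddSolvable _ ?_)
    rw [← Nat.not_even_iff_odd, even_iff_two_dvd]
    exact CfsgLib.PCore.not_dvd_card_pPrimeCore
  have hzc : z ∈ center G := mem_center_iff.2 fun g => by
    have := CfsgLib.Involutions.zstar G z hiso g
    rw [hcore, mem_bot] at this
    exact mul_inv_eq_iff_eq_mul.1 (mul_inv_eq_one.1 this)
  have hc : center G = ⊥ := eq_bot_of_solvable hR inferInstance
    (Group.isSolvable_of_comm fun x y => Subtype.ext (mem_center_iff.1 y.2 x))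
  rw [hc, mem_bot] at hzc
  rw [hzc, orderOf_one] at hz
  omega

/-- Two commuting nontrivial factors without solvable normal subgroups give an elementary abelian
subgroup of order at least sixteen. -/
theorem exists_sixteen {K L : Subgroup G} (hK : Cfsg.solvableRadical K = ⊥)
    (hL : Cfsg.solvableRadical L = ⊥) (hK1 : K ≠ ⊥) (hL1 : L ≠ ⊥)
    (hc : ∀ x ∈ K, ∀ y ∈ L, Commute x y) (hd : K ⊓ L = ⊥) :
    ∃ E : Subgroup G, IsMulCommutative E ∧ (∀ x ∈ E, x ^ 2 = 1) ∧ 16 ≤ Nat.card E := by
  classical
  have four : ∀ {K : Subgroup G}, Cfsg.solvableRadical K = ⊥ → K ≠ ⊥ →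
      ∃ A : Subgroup G, A ≤ K ∧ (∀ x ∈ A, x * x = 1) ∧ 4 ≤ Nat.card A := by
    intro K hK hK1
    haveI : Nontrivial K := K.nontrivial_iff_ne_bot.2 hK1
    obtain ⟨s, t, hs, ht, hne, hst⟩ := exists_two_involutions hK
    have hs2 : (s : G) * s = 1 := congrArg Subtype.val (CfsgLib.Involutions.mul_self_eq_one hs)
    have ht2 : (t : G) * t = 1 := congrArg Subtype.val (CfsgLib.Involutions.mul_self_eq_one ht)
    have hstG : Commute (s : G) t := congrArg Subtype.val hst.eq
    refine ⟨closure {(s : G), (t : G)}, (closure_le _).2 ?_, ?_, ?_⟩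
    · simp [Set.insert_subset_iff]
    · intro x hx
      haveI := isMulCommutative_closure (k := {(s : G), (t : G)}) (by
        rintro x (rfl | rfl) y (rfl | rfl)
        exacts [rfl, hstG.eq, hstG.eq.symm, rfl])
      induction hx using closure_induction with
      | mem x hx => rcases hx with rfl | rfl <;> assumption
      | one => exact one_mul 1
      | mul x y hx' hy' hx hy =>
        have hxy : x * y = y * x := congrArg Subtype.val
          (mul_comm' (⟨x, hx'⟩ : closure {(s : G), (t : G)}) ⟨y, hy'⟩)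
        calc x * y * (x * y) = x * (y * x) * y := by group
          _ = x * x * (y * y) := by rw [← hxy]; group
          _ = 1 := by rw [hx, hy, one_mul]
      | inv x _ hx => rw [← mul_inv_rev, hx, inv_one]
    · let F : Finset G := {1, (s : G), (t : G), (s : G) * t}
      have hF : F.card = 4 := by
        have hs1 : (s : G) ≠ 1 := fun e => by
          have : s = 1 := Subtype.ext e
          rw [this, orderOf_one] at hs; omega
        have ht1 : (t : G) ≠ 1 := fun e => by
          have : t = 1 := Subtype.ext e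
          rw [this, orderOf_one] at ht; omega
        have hneG : (s : G) ≠ t := fun e => hne (Subtype.ext e)
        have hp1 : (s : G) * t ≠ 1 := fun e => hneG (by
          rw [← inv_eq_of_mul_eq_one_right hs2]
          exact inv_eq_of_mul_eq_one_right e)
        have hps : (s : G) * t ≠ s := fun e => ht1 (mul_eq_left.1 e)
        have hpt : (s : G) * t ≠ t := fun e => hs1 (mul_eq_right.1 e)
        simp [F, hs1.symm, ht1.symm, hneG, hp1.symm, hps.symm, hpt.symm]
      rw [← hF, ← Nat.card_eq_finsetCard]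
      refine Nat.card_le_card_of_injective (fun x => ⟨(x : G), ?_⟩)
        (fun x y e => Subtype.ext (congrArg Subtype.val e :))
      have hx := x.2
      simp only [F, Finset.mem_insert, Finset.mem_singleton] at hx
      rcases hx with e | e | e | e <;> rw [e]
      · exact one_mem _
      · exact subset_closure (Or.inl rfl)
      · exact subset_closure (Or.inr rfl)
      · exact mul_mem (subset_closure (Or.inl rfl)) (subset_closure (Or.inr rfl))
  obtain ⟨A, hAK, hA2, hA4⟩ := four hK hK1
  obtain ⟨B, hBL, hB2, hB4⟩ := four hL hL1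
  have hcomm : ∀ {A : Subgroup G}, (∀ x ∈ A, x * x = 1) → ∀ x ∈ A, ∀ y ∈ A, Commute x y :=
    fun {A} h x hx y hy => by
      have h1 := inv_eq_of_mul_eq_one_right (h _ (mul_mem hx hy))
      rw [mul_inv_rev, inv_eq_of_mul_eq_one_right (h x hx), inv_eq_of_mul_eq_one_right (h y hy)] at h1
      exact h1.symm
  let E : Subgroup G :=
    { carrier := {g | ∃ x ∈ A, ∃ y ∈ B, g = x * y}
      one_mem' := ⟨1, one_mem _, 1, one_mem _, (one_mul 1).symm⟩
      mul_mem' := by
        rintro _ _ ⟨x, hx, y, hy, rfl⟩ ⟨x', hx', y', hy', rfl⟩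
        refine ⟨x * x', mul_mem hx hx', y * y', mul_mem hy hy', ?_⟩
        calc x * y * (x' * y') = x * (y * x') * y' := by group
          _ = x * (x' * y) * y' := by rw [(hc x' (hAK hx') y (hBL hy)).eq]
          _ = _ := by group
      inv_mem' := by
        rintro _ ⟨x, hx, y, hy, rfl⟩
        refine ⟨x⁻¹, inv_mem hx, y⁻¹, inv_mem hy, ?_⟩
        rw [(hc x (hAK hx) y (hBL hy)).eq, mul_inv_rev] }
  refine ⟨E, ⟨⟨?_⟩⟩, ?_, ?_⟩
  · rintro ⟨_, x, hx, y, hy, rfl⟩ ⟨_, x', hx', y', hy', rfl⟩
    apply Subtype.ext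
    show x * y * (x' * y') = x' * y' * (x * y)
    have h1 := hcomm hA2 x hx x' hx'
    have h2 := hcomm hB2 y hy y' hy'
    have h3 := hc x (hAK hx) y' (hBL hy')
    have h4 := hc x' (hAK hx') y (hBL hy)
    exact ((h1.mul_right h3).mul_left ((h4.symm).mul_right h2)).eq
  · rintro _ ⟨x, hx, y, hy, rfl⟩
    rw [(hc x (hAK hx) y (hBL hy)).mul_pow, pow_two, pow_two, hA2 x hx, hB2 y hy, one_mul]
  · have hinj : Function.Injective
        (fun p : A × B => (⟨(p.1 : G) * p.2, p.1, p.1.2, p.2, p.2.2, rfl⟩ : E)) := by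
      rintro ⟨⟨x, hx⟩, ⟨y, hy⟩⟩ ⟨⟨x', hx'⟩, ⟨y', hy'⟩⟩ e
      have e' : x * y = x' * y' := congrArg Subtype.val e
      have hm : x'⁻¹ * x ∈ K ⊓ L := mem_inf.2 ⟨mul_mem (inv_mem (hAK hx')) (hAK hx), by
        rw [show x'⁻¹ * x = y' * y⁻¹ by
          calc x'⁻¹ * x = x'⁻¹ * (x * y) * y⁻¹ := by group
            _ = _ := by rw [e']; group]
        exact mul_mem (hBL hy') (inv_mem (hBL hy))⟩
      rw [hd, mem_bot, inv_mul_eq_one] at hm
      subst hm
      obtain rfl := mul_left_cancel e'
      rfl
    have := Nat.card_le_card_of_injective _ hinj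
    rw [Nat.card_prod] at this
    exact le_trans (Nat.mul_le_mul hA4 hB4) this

/-- The socle is simple. -/
theorem exists_simple [Nontrivial G] (hR : Cfsg.solvableRadical G = ⊥)
    (hE : ∀ E : Subgroup G, IsMulCommutative E → (∀ x ∈ E, x ^ 2 = 1) → Nat.card E ≤ 8) :
    ∃ N : Subgroup G, N.Normal ∧ IsSimpleGroup N ∧ ¬ IsMulCommutative N ∧
      centralizer (N : Set G) = ⊥ := by
  have key : ∀ K L : Subgroup G, K.IsSubnormal → L.IsSubnormal → K ≠ ⊥ → L ≠ ⊥ →
      (∀ x ∈ K, ∀ y ∈ L, Commute x y) → K ⊓ L = ⊥ → False := by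
    intro K L hK hL hK1 hL1 hc hd
    obtain ⟨E, h1, h2, h3⟩ := exists_sixteen (radical_of_isSubnormal hR hK)
      (radical_of_isSubnormal hR hL) hK1 hL1 hc hd
    have := hE E h1 h2
    omega
  obtain ⟨N, hN⟩ := ({N : Subgroup G | N.Normal ∧ N ≠ ⊥}).toFinite.exists_minimal
    ⟨⊤, inferInstance, top_ne_bot⟩
  haveI := hN.prop.1
  have hNC : N ⊓ centralizer (N : Set G) = ⊥ := by
    refine eq_bot_of_solvable hR inferInstance ?_
    exact Group.isSolvable_of_comm fun x y => Subtype.ext
      (mem_centralizer_iff.1 (mem_inf.1 y.2).2 x (mem_inf.1 x.2).1)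
  have hC : centralizer (N : Set G) = ⊥ := by
    by_contra hne
    exact key N _ hN.prop.1.isSubnormal (inferInstance : (centralizer (N : Set G)).Normal).isSubnormal
      hN.prop.2 hne (fun x hx y hy => mem_centralizer_iff.1 hy x hx) hNC
  haveI : Nontrivial N := N.nontrivial_iff_ne_bot.2 hN.prop.2
  have hab : ¬ IsMulCommutative N := fun h => by
    haveI := h
    exact hN.prop.2 (eq_bot_of_solvable hR hN.prop.1 (Group.isSolvable_of_comm mul_comm'))
  refine ⟨N, hN.prop.1, ?_, hab, hC⟩
  obtain ⟨K, hK⟩ := ({K : Subgroup N | K.Normal ∧ K ≠ ⊥}).toFinite.exists_minimal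
    ⟨⊤, inferInstance, top_ne_bot⟩
  haveI := hK.prop.1
  have hKtop : K = ⊤ := by
    by_cases hinv : ∀ g : G, ∀ k : N, k ∈ K →
        (⟨g * k * g⁻¹, hN.prop.1.conj_mem _ k.2 g⟩ : N) ∈ K
    · have hKn : (K.map N.subtype).Normal := ⟨by
        rintro _ ⟨k, hk, rfl⟩ g
        exact ⟨_, hinv g k hk, rfl⟩⟩
      have hle := hN.le_of_le ⟨hKn, fun e => hK.prop.2
        ((map_eq_bot_iff_of_injective _ N.subtype_injective).1 e)⟩ (map_subtype_le K)
      refine eq_top_iff.2 fun k _ => ?_
      obtain ⟨k', hk', e⟩ := hle k.2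
      exact (Subtype.ext e : k' = k) ▸ hk'
    · exfalso
      push Not at hinv
      obtain ⟨g, k, hk, hgk⟩ := hinv
      let φ : MulAut N := MulAut.conjNormal g
      set K' := K.map φ.toMonoidHom
      have hK'n : K'.Normal := hK.prop.1.map _ φ.surjective
      have hcard : Nat.card K' = Nat.card K := card_map_of_injective φ.injective
      have hd : K ⊓ K' = ⊥ := by
        by_contra hne
        have h1 : K ⊓ K' = K := le_antisymm inf_le_left
          (hK.le_of_le ⟨inferInstance, hne⟩ inf_le_left)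
        have h2 : K = K' := eq_of_le_of_card_ge (inf_eq_left.1 h1) hcard.le
        exact hgk (h2 ▸ ⟨k, hk, Subtype.ext (MulAut.conjNormal_apply g k)⟩)
      have hK'1 : K' ≠ ⊥ := fun e => hK.prop.2
        ((map_eq_bot_iff_of_injective _ φ.injective).1 e)
      refine key (K.map N.subtype) (K'.map N.subtype)
        (Subgroup.IsSubnormal.trans' hK.prop.1.isSubnormal hN.prop.1.isSubnormal)
        (Subgroup.IsSubnormal.trans' hK'n.isSubnormal hN.prop.1.isSubnormal)
        (fun e => hK.prop.2 ((map_eq_bot_iff_of_injective _ N.subtype_injective).1 e))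
        (fun e => hK'1 ((map_eq_bot_iff_of_injective _ N.subtype_injective).1 e)) ?_ ?_
      · rintro _ ⟨x, hx, rfl⟩ _ ⟨y, hy, rfl⟩
        exact congrArg Subtype.val
          (commute_of_normal_of_disjoint K K' hK.prop.1 hK'n (disjoint_iff.2 hd) x y hx hy).eq
      · rw [← map_inf _ _ _ N.subtype_injective, hd, Subgroup.map_bot]
  refine ⟨fun H hH => ?_⟩
  by_contra hcon
  push Not at hcon
  exact hcon.2 (top_le_iff.1 (hKtop ▸ hK.le_of_le ⟨hH, hcon.1⟩ (hKtop ▸ le_top)))

end CfsgLib.CyclicZFact
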