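import Mathlib
import Cfsg.Agent.Lib.CyclicZFact.Bicyclic
import Cfsg.Agent.Lib.CyclicZFact.Socle
import Cfsg.Agent.Lib.PSL2.Involution
import Cfsg.Agent.Lib.Solvable.Factorization

/-!
# The frame of a nonsolvable factorization cyclic times Z-group
-/

set_option autoImplicit false
set_option linter.style.haveILetI false

open Subgroup

namespace CfsgLib.CyclicZFact

universe u

/-- The hypotheses, after reduction modulo the solvable radical. -/
structure Setting {G : Type u} [Group G] (A B : Subgroup G) : Prop where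
  cyc : IsCyclic A
  zg : IsZGroup B
  prod : ∀ g : G, ∃ a ∈ A, ∃ b ∈ B, g = a * b
  rad : Cfsg.solvableRadical G = ⊥
  ns : ¬ Group.IsSolvable G

namespace Setting

variable {G : Type u} [Group G] [Finite G] {A B : Subgroup G}

theorem nontrivial (h : Setting A B) : Nontrivial G :=
  not_subsingleton_iff_nontrivial.1 fun _ => h.ns inferInstance

omit [Finite G] in
theorem comm_A (h : Setting A B) {x y : G} (hx : x ∈ A) (hy : y ∈ A) : x * y = y * x := by
  haveI := h.cyc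
  letI := IsCyclic.commGroup (α := A)
  exact congrArg Subtype.val (mul_comm (⟨x, hx⟩ : A) ⟨y, hy⟩)

theorem inf_eq_bot (h : Setting A B) : A ⊓ B = ⊥ := by
  have hle : normalClosure ((A ⊓ B : Subgroup G) : Set G) ≤ B := by
    refine (closure_le _).2 fun z hz => ?_
    obtain ⟨x, hx, hz⟩ := Group.mem_conjugatesOfSet_iff.1 hz
    obtain ⟨g, rfl⟩ := isConj_iff.1 hz
    obtain ⟨b, hb, a, ha, rfl⟩ := CfsgLib.Factorization.swap h.prod g
    rw [show b * a * x * (b * a)⁻¹ = b * (a * x * a⁻¹) * b⁻¹ by group,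
      h.comm_A ha (mem_inf.1 hx).1, mul_inv_cancel_right]
    exact mul_mem (mul_mem hb (mem_inf.1 hx).2) (inv_mem hb)
  haveI := h.zg
  have hb := eq_bot_of_solvable h.rad normalClosure_normal
    (CfsgLib.Structure.isSolvable_of_le hle inferInstance)
  exact le_bot_iff.1 (hb ▸ subset_normalClosure)

theorem eq_one_of_conj (h : Setting A B) {x y : G} (hx : x ∈ A) (hy : y ∈ B) (hc : IsConj x y) :
    x = 1 := by
  obtain ⟨g, rfl⟩ := isConj_iff.1 hc
  obtain ⟨b, hb, a, ha, rfl⟩ := CfsgLib.Factorization.swap h.prod g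
  rw [show b * a * x * (b * a)⁻¹ = b * (a * x * a⁻¹) * b⁻¹ by group, h.comm_A ha hx,
    mul_inv_cancel_right] at hy
  have hxB : x ∈ B := by
    have := mul_mem (mul_mem (inv_mem hb) hy) hb
    simpa [mul_assoc] using this
  have := mem_inf.2 ⟨hx, hxB⟩
  rwa [h.inf_eq_bot, mem_bot] at this

theorem card_mul (h : Setting A B) : Nat.card A * Nat.card B = Nat.card G := by
  rw [CfsgLib.Factorization.card_mul_card h.prod, h.inf_eq_bot, card_bot, mul_one]

theorem le_of_sylow_le {p : ℕ} [Fact p.Prime] (X : Subgroup G) (P : Sylow p X) {K : Subgroup G}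
    (hK : K.index = p) [K.Normal] (hP : (P : Subgroup X).map X.subtype ≤ K) : X ≤ K := by
  rw [← subgroupOf_eq_top, ← index_eq_one]
  have h1 : (K.subgroupOf X).index ∣ p := hK ▸ Subgroup.relIndex_dvd_index_of_normal K X
  have h2 : (K.subgroupOf X).index ∣ (P : Subgroup X).index :=
    index_dvd_of_le fun x hx => mem_subgroupOf.2 (hP ⟨x, hx, rfl⟩)
  rcases (Nat.dvd_prime Fact.out).1 h1 with e | e
  · exact e
  · exact absurd (e ▸ h2) P.not_dvd_index

theorem not_isCyclic_sylow (h : Setting A B) (T : Sylow 2 G) : ¬ IsCyclic (T : Subgroup G) := by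
  intro hT
  haveI : Fact (Nat.Prime 2) := ⟨Nat.prime_two⟩
  haveI := h.nontrivial
  obtain ⟨s, t, hs, ht, hne, hst⟩ := exists_two_involutions h.rad
  have hgen : ∀ x ∈ ({s, t} : Set G), ∀ y ∈ ({s, t} : Set G), x * y = y * x := by
    rintro x (rfl | rfl) y (rfl | rfl)
    exacts [rfl, hst.eq, hst.eq.symm, rfl]
  haveI := isMulCommutative_closure hgen
  have hE : IsPGroup 2 (closure {s, t}) := by
    intro x
    refine ⟨1, ?_⟩
    obtain ⟨x, hx⟩ := x
    apply Subtype.ext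
    show x ^ 2 ^ 1 = 1
    rw [pow_one]
    induction hx using closure_induction with
    | mem x hx =>
      rcases hx with rfl | rfl
      · rw [← hs]; exact pow_orderOf_eq_one _
      · rw [← ht]; exact pow_orderOf_eq_one _
    | one => exact one_pow 2
    | mul x y hx' hy' hx hy =>
      rw [Commute.mul_pow (congrArg Subtype.val
        (mul_comm' (⟨x, hx'⟩ : closure {s, t}) ⟨y, hy'⟩) :), hx, hy, one_mul]
    | inv x _ hx => rw [inv_pow, hx, inv_one]
  obtain ⟨Q, hQ⟩ := hE.exists_le_sylow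
  haveI := hT
  haveI : IsCyclic (Q : Subgroup G) := (MulEquiv.isCyclic (T.equiv Q)).1 hT
  have := CfsgLib.PSL2.eq_of_orderOf_two (a := (⟨s, hQ (subset_closure (Or.inl rfl))⟩ : (Q : Subgroup G)))
    (b := ⟨t, hQ (subset_closure (Or.inr rfl))⟩) (by rwa [orderOf_mk]) (by rwa [orderOf_mk])
  exact hne (congrArg Subtype.val this)

/-- A Sylow 2-subgroup `⟨a⟩⟨b⟩`. -/
theorem exists_sylow (h : Setting A B) :
    ∃ (T : Sylow 2 G) (a b : (T : Subgroup G)), Bic a b ∧ (a : G) ∈ A ∧ (b : G) ∈ B ∧ a ≠ 1 ∧ b ≠ 1 ∧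
      (∀ K : Subgroup G, K.index = 2 → (a : G) ∈ K → A ≤ K) ∧
      (∀ K : Subgroup G, K.index = 2 → (b : G) ∈ K → B ≤ K) := by
  haveI : Fact (Nat.Prime 2) := ⟨Nat.prime_two⟩
  haveI := h.cyc
  haveI := h.zg
  obtain ⟨P, Q, R, hR⟩ := CfsgLib.Factorization.exists_sylow_product (p := 2) h.prod
  obtain ⟨⟨⟨a, haA⟩, haP⟩, hagen⟩ := IsCyclic.exists_generator (α := (P : Subgroup A))
  obtain ⟨⟨⟨b, hbB⟩, hbQ⟩, hbgen⟩ := IsCyclic.exists_generator (α := (Q : Subgroup B))
  have hP' : (P : Subgroup A).map A.subtype = zpowers a := by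
    refine le_antisymm ?_ (zpowers_le.2 ⟨⟨a, haA⟩, haP, rfl⟩)
    rintro _ ⟨x, hx, rfl⟩
    obtain ⟨k, hk⟩ := hagen ⟨x, hx⟩
    exact ⟨k, congrArg (fun z : (P : Subgroup A) => ((z : A) : G)) hk⟩
  have hQ' : (Q : Subgroup B).map B.subtype = zpowers b := by
    refine le_antisymm ?_ (zpowers_le.2 ⟨⟨b, hbB⟩, hbQ, rfl⟩)
    rintro _ ⟨x, hx, rfl⟩
    obtain ⟨k, hk⟩ := hbgen ⟨x, hx⟩
    exact ⟨k, congrArg (fun z : (Q : Subgroup B) => ((z : B) : G)) hk⟩
  rw [hP', hQ'] at hR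
  have haR : a ∈ (R : Subgroup G) := by
    rw [← SetLike.mem_coe, hR]; exact ⟨a, mem_zpowers a, 1, one_mem _, mul_one a⟩
  have hbR : b ∈ (R : Subgroup G) := by
    rw [← SetLike.mem_coe, hR]; exact ⟨1, one_mem _, b, mem_zpowers b, one_mul b⟩
  have hbic : Bic (⟨a, haR⟩ : (R : Subgroup G)) ⟨b, hbR⟩ := by
    refine ⟨R.isPGroup', fun g => ?_, fun i j e => ?_⟩
    · have hg : (g : G) ∈ ((R : Subgroup G) : Set G) := g.2
      rw [hR] at hg
      obtain ⟨_, ⟨i, rfl⟩, _, ⟨j, rfl⟩, e⟩ := hg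
      exact ⟨i, j, Subtype.ext (by simpa using e.symm)⟩
    · have e' : a ^ i = b ^ j := by simpa using congrArg Subtype.val e
      have hm : a ^ i ∈ A ⊓ B := mem_inf.2 ⟨zpow_mem haA i, e' ▸ zpow_mem hbB j⟩
      rw [h.inf_eq_bot, mem_bot] at hm
      exact Subtype.ext (by simpa using hm)
  refine ⟨R, ⟨a, haR⟩, ⟨b, hbR⟩, hbic, haA, hbB, ?_, ?_, ?_, ?_⟩
  · intro e
    refine h.not_isCyclic_sylow R (isCyclic_iff_exists_zpowers_eq_top.2 ⟨⟨b, hbR⟩,
      eq_top_iff.2 fun g _ => ?_⟩)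
    obtain ⟨i, j, rfl⟩ := hbic.fact g
    exact ⟨j, by show (⟨b, hbR⟩ : (R : Subgroup G)) ^ j = _; rw [e, one_zpow, one_mul]⟩
  · intro e
    refine h.not_isCyclic_sylow R (isCyclic_iff_exists_zpowers_eq_top.2 ⟨⟨a, haR⟩,
      eq_top_iff.2 fun g _ => ?_⟩)
    obtain ⟨i, j, rfl⟩ := hbic.fact g
    exact ⟨i, by show (⟨a, haR⟩ : (R : Subgroup G)) ^ i = _; rw [e, one_zpow, mul_one]⟩
  · intro K hK haK
    haveI := normal_of_index_eq_two hK
    exact le_of_sylow_le A P hK (hP' ▸ zpowers_le.2 haK)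
  · intro K hK hbK
    haveI := normal_of_index_eq_two hK
    exact le_of_sylow_le B Q hK (hQ' ▸ zpowers_le.2 hbK)

/-- The sign of the action on the cosets of `B`. -/
theorem exists_index_two (h : Setting A B) (h2 : 2 ∣ Nat.card A) :
    ∃ K : Subgroup G, K.index = 2 ∧ ¬ A ≤ K := by
  classical
  haveI := h.cyc
  let _ := Fintype.ofFinite (G ⧸ B)
  obtain ⟨⟨g, hgA⟩, hg⟩ := IsCyclic.exists_generator (α := A)
  let φ : G →* Equiv.Perm (G ⧸ B) := MulAction.toPermHom G (G ⧸ B)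
  have hfree : ∀ x : G ⧸ B, φ g x ≠ x := by
    intro x
    obtain ⟨y, rfl⟩ := QuotientGroup.mk_surjective x
    obtain ⟨a, ha, b, hb, rfl⟩ := h.prod y
    intro e
    have e' : ((g * (a * b) : G) : G ⧸ B) = ((a * b : G) : G ⧸ B) := e
    have hm := QuotientGroup.eq.1 e'
    rw [show (g * (a * b))⁻¹ * (a * b) = b⁻¹ * (a⁻¹ * g⁻¹ * a) * b by group] at hm
    have hgB : g ∈ B := by
      rw [h.comm_A (inv_mem ha) (inv_mem hgA), inv_mul_cancel_right] at hm
      simpa [mul_assoc] using inv_mem (mul_mem (mul_mem hb hm) (inv_mem hb))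
    have hg1 := mem_inf.2 ⟨hgA, hgB⟩
    rw [h.inf_eq_bot, mem_bot] at hg1
    have : Nat.card A = 1 := by
      refine Nat.card_eq_one_iff_unique.2 ⟨⟨fun p q => ?_⟩, inferInstance⟩
      obtain ⟨i, hi⟩ := hg p
      obtain ⟨j, hj⟩ := hg q
      apply Subtype.ext
      rw [← hi, ← hj]
      simp [hg1]
    omega
  have hsame : ∀ x y : G ⧸ B, ∃ i : ℤ, (φ g ^ i) x = y := by
    intro x y
    obtain ⟨p, rfl⟩ := QuotientGroup.mk_surjective x
    obtain ⟨q, rfl⟩ := QuotientGroup.mk_surjective y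
    obtain ⟨a, ha, b, hb, rfl⟩ := h.prod p
    obtain ⟨a', ha', b', hb', rfl⟩ := h.prod q
    obtain ⟨i, hi⟩ := hg ⟨a' * a⁻¹, mul_mem ha' (inv_mem ha)⟩
    have hi' : g ^ i = a' * a⁻¹ := congrArg Subtype.val hi
    refine ⟨i, ?_⟩
    rw [← map_zpow, hi']
    show ((a' * a⁻¹ * (a * b) : G) : G ⧸ B) = ((a' * b' : G) : G ⧸ B)
    refine QuotientGroup.eq.2 ?_
    rw [show (a' * a⁻¹ * (a * b))⁻¹ * (a' * b') = b⁻¹ * b' by group]
    exact mul_mem (inv_mem hb) hb'
  have hcyc : (φ g).IsCycle := ⟨((1 : G) : G ⧸ B), hfree _, fun y _ => hsame _ y⟩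
  have hsupp : (φ g).support = Finset.univ :=
    Finset.eq_univ_iff_forall.2 fun x => Equiv.Perm.mem_support.2 (hfree x)
  have hcard : Fintype.card (G ⧸ B) = Nat.card A := by
    rw [← Nat.card_eq_fintype_card]
    refine Nat.eq_of_mul_eq_mul_right (Nat.card_pos (α := B)) ?_
    rw [← card_eq_card_quotient_mul_card_subgroup, h.card_mul]
  let ψ : G →* ℤˣ := Equiv.Perm.sign.comp φ
  have hψg : ψ g = -1 := by
    show Equiv.Perm.sign (φ g) = -1
    rw [hcyc.sign, hsupp, Finset.card_univ, hcard]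
    obtain ⟨k, hk⟩ := h2
    rw [hk, pow_mul]
    simp
  refine ⟨ψ.ker, ?_, fun hle => ?_⟩
  · rw [index_ker]
    have : ψ.range = ⊤ := eq_top_iff.2 fun x _ => by
      rcases Int.units_eq_one_or x with rfl | rfl
      · exact one_mem _
      · exact ⟨g, hψg⟩
    rw [this, card_top, Nat.card_eq_fintype_card]
    rfl
  · have := MonoidHom.mem_ker.1 (hle hgA)
    rw [hψg] at this
    exact absurd this (by decide)

end Setting

end CfsgLib.CyclicZFact
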