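import Mathlib
import Cfsg.Agent.Lib.CyclicZFact.Socle
import Cfsg.Agent.Lib.GWCons.RankOneCover
import Cfsg.Agent.Lib.Mitchell.RecogA7
import Cfsg.Agent.Lib.PSL2.Involution
import Cfsg.Agent.Lib.InvChar.SylowThree
import Cfsg.Agent.Lib.InvChar.HermNoSymThree
import Cfsg.Agent.Lib.TwoGroups.RankTwoSimpleCore

/-!
# Simple groups of 2-rank two, given the dihedral classification
-/

set_option autoImplicit false
set_option linter.style.haveILetI false

open Subgroup
open scoped commutatorElement

namespace CfsgLib.CyclicZFact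

universe u

open CfsgLib.GWCons.RankOneCover (DihedralClassification)
open CfsgLib.InvCharSixtyFour (HermLike)

variable {X : Type u} [Group X] [Finite X]

omit [Finite X] in
theorem isPerfect_of_simple [IsSimpleGroup X] (hX : ¬ IsMulCommutative X) : Group.IsPerfect X := by
  rw [Group.isPerfect_def]
  refine (inferInstance : (commutator X).Normal).eq_bot_or_eq_top.resolve_left fun h => hX ⟨⟨?_⟩⟩
  intro x y
  have : ⁅x, y⁆ ∈ commutator X := commutator_mem_commutator (mem_top x) (mem_top y)
  rw [h, mem_bot] at this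
  exact commutatorElement_eq_one_iff_mul_comm.1 this

theorem oddCore_of_simple [IsSimpleGroup X] (h2 : 2 ∣ Nat.card X) : Cfsg.oddCore X = ⊥ := by
  refine (inferInstance : (Cfsg.pPrimeCore 2 X).Normal).eq_bot_or_eq_top.resolve_right fun h => ?_
  have := CfsgLib.PCore.not_dvd_card_pPrimeCore (p := 2) (G := X)
  rw [h, card_top] at this
  exact this h2

theorem even_of_simple [IsSimpleGroup X] (hX : ¬ IsMulCommutative X) : 2 ∣ Nat.card X := by
  by_contra h
  have hs : Group.IsSolvable X := CfsgLib.PF.oddSolvable X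
    (by rw [← Nat.not_even_iff_odd, even_iff_two_dvd]; exact h)
  haveI := isPerfect_of_simple hX
  exact Group.IsPerfect.not_isSolvable X hs

/-- Simple groups with dihedral Sylow 2-subgroups. -/
theorem dihedral_cases [IsSimpleGroup X] (hDC : DihedralClassification.{u})
    (hX : ¬ IsMulCommutative X) (P : Sylow 2 X) {n : ℕ} (hn : 2 ≤ n)
    (he : Nonempty ((P : Subgroup X) ≃* DihedralGroup n)) :
    (∃ (F : Type) (_ : Field F) (_ : Fintype F), Odd (Fintype.card F) ∧ 3 < Fintype.card F ∧
        Nonempty (X ≃* Matrix.ProjectiveSpecialLinearGroup (Fin 2) F)) ∨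
      Nonempty (X ≃* alternatingGroup (Fin 7)) := by
  haveI := isPerfect_of_simple hX
  have hO := oddCore_of_simple (even_of_simple hX)
  let e : X ≃* X ⧸ Cfsg.oddCore X :=
    (QuotientGroup.quotientBot.symm.trans (QuotientGroup.quotientMulEquivOfEq hO.symm))
  rcases hDC X P n hn he with ⟨F, i1, i2, h1, h2, ⟨f⟩⟩ | ⟨⟨f⟩⟩
  · exact Or.inl ⟨F, i1, i2, h1, h2, ⟨e.trans f⟩⟩
  · exact Or.inr ⟨e.trans f⟩

theorem alt_seven_isConj {x y : alternatingGroup (Fin 7)} (hx : orderOf x = 2) (hy : orderOf y = 2) :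
    IsConj x y := by
  have hct : ∀ z : alternatingGroup (Fin 7), orderOf z = 2 → (z : Equiv.Perm (Fin 7)).cycleType = {2, 2} := by
    intro z hz
    rw [← Subgroup.orderOf_coe, ← Equiv.Perm.lcm_cycleType] at hz
    have h := CfsgLib.Mitchell.cycleType_even_seven _ (Equiv.Perm.mem_alternatingGroup.1 z.2)
    simp only [List.mem_cons, List.not_mem_nil, or_false] at h
    rcases h with h | h | h | h | h | h | h | h <;> rw [h] at hz ⊢ <;> revert hz <;> decide
  let g₀ : alternatingGroup (Fin 7) :=
    ⟨Equiv.swap 0 1 * Equiv.swap 2 3, Equiv.Perm.mem_alternatingGroup.2 (by decide +kernel)⟩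
  have h0 : orderOf g₀ = 2 := orderOf_eq_prime (p := 2) (by decide +kernel) (by decide +kernel)
  refine IsConj.trans (b := g₀) (IsConj.symm ?_) ?_
  · exact CfsgLib.Mitchell.isConj_of_cycleType x.2 g₀.2 (o := Equiv.swap 4 5) (by decide +kernel)
      (by decide +kernel) ((hct g₀ h0).trans (hct x hx).symm)
  · exact CfsgLib.Mitchell.isConj_of_cycleType y.2 g₀.2 (o := Equiv.swap 4 5) (by decide +kernel)
      (by decide +kernel) ((hct g₀ h0).trans (hct y hy).symm)

/-- One class of involutions, except possibly for Sylow 2-subgroups of type U₃(4). -/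
theorem isConj_or_herm [IsSimpleGroup X] (hDC : DihedralClassification.{u})
    (hX : ¬ IsMulCommutative X) (h2 : Cfsg.PRankLE 2 2 X) (P : Sylow 2 X) :
    (∀ s t : X, orderOf s = 2 → orderOf t = 2 → IsConj s t) ∨ HermLike (P : Subgroup X) 4 := by
  haveI : Fintype (GaloisField 2 4) := Fintype.ofFinite _
  have hF : Fintype.card (GaloisField 2 4) = 16 := by
    rw [← Nat.card_eq_fintype_card, GaloisField.card 2 4 (by norm_num)]; rfl
  obtain ⟨Q⟩ : Nonempty (Sylow 2 (Cfsg.PSU 3 (GaloisField 2 4) 4)) := inferInstance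
  have hidx : ∀ H : Subgroup X, H.index ≠ 2 := fun H hH => by
    rcases (normal_of_index_eq_two hH).eq_bot_or_eq_top with rfl | rfl
    · rw [index_bot] at hH
      haveI : Fact (Nat.Prime 2) := ⟨Nat.prime_two⟩
      haveI := isCyclic_of_prime_card hH
      exact hX IsCyclic.isMulCommutative
    · rw [index_top] at hH; omega
  rcases CfsgLib.RankTwoTypes.sylow_types_of_even hX (even_of_simple hX) h2 P hF Q with
    ⟨n, hn, he⟩ | hqd | hwr | ⟨⟨e⟩⟩
  · left
    intro s t hs ht
    rcases dihedral_cases hDC hX P hn he with ⟨F, i1, i2, hodd, -, ⟨f⟩⟩ | ⟨⟨f⟩⟩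
    · have h2F : (2 : F) ≠ 0 := by
        intro e0
        haveI := CharTwo.of_one_ne_zero_of_two_eq_zero (R := F) one_ne_zero e0
        exact Nat.not_even_iff_odd.2 hodd (even_iff_two_dvd.2
          ((CharP.cast_eq_zero_iff F 2 _).1 (FiniteField.cast_card_eq_zero F)))
      have := CfsgLib.PSL2.isConj_of_orderOf_two h2F (x := f s) (y := f t)
        (by rw [MulEquiv.orderOf_eq, hs]) (by rw [MulEquiv.orderOf_eq, ht])
      simpa using f.symm.toMonoidHom.map_isConj this
    · have := alt_seven_isConj (x := f s) (y := f t) (by rw [MulEquiv.orderOf_eq, hs])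
        (by rw [MulEquiv.orderOf_eq, ht])
      simpa using f.symm.toMonoidHom.map_isConj this
  · left
    intro s t hs ht
    obtain ⟨r, x, y, h⟩ := CfsgLib.TwoGroups.SD.exists_sd hqd
    exact (CfsgLib.TwoGroups.RankTwo.sd_isConj_J h hidx hs).trans
      (CfsgLib.TwoGroups.RankTwo.sd_isConj_J h hidx ht).symm
  · left
    intro s t hs ht
    obtain ⟨n, x, y, z, h⟩ := CfsgLib.TwoGroups.WR.exists_wr hwr
    exact (CfsgLib.TwoGroups.RankTwo.wr_isConj_jE h hidx hs).trans
      (CfsgLib.TwoGroups.RankTwo.wr_isConj_jE h hidx ht).symm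
  · right
    have hF' : Fintype.card (GaloisField 2 4) = 4 ^ 2 := by rw [hF]; norm_num
    let _ := CfsgLib.InvCharThree.hermGroup hF' (show Even 4 by decide)
    obtain ⟨g⟩ := CfsgLib.InvCharThree.herm_equiv_sylow_psu hF' (show Even 4 by decide) (n := 2) rfl Q
    exact CfsgLib.InvCharSixtyFour.hermLike_of_equiv (g.trans e.symm)
      (CfsgLib.InvCharSixtyFour.hermLike_herm hF' (show Even 4 by decide))

end CfsgLib.CyclicZFact
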