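import Mathlib
import Cfsg.Agent.Lib.CyclicZFact.Frame
import Cfsg.Agent.Lib.CyclicZFact.Classes
import Cfsg.Agent.Lib.CyclicZFact.Recognize
import Cfsg.Agent.Lib.Struct76.Basic

/-!
# The two involutions of the factors do not both lie in the socle
-/

set_option autoImplicit false
set_option linter.style.haveILetI false

open Subgroup

namespace CfsgLib.CyclicZFact

universe u

open CfsgLib.GWCons.RankOneCover (DihedralClassification)

/-- No isolated involution without solvable normal subgroups. -/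
theorem exists_conj_commute {G : Type u} [Group G] [Finite G] (hR : Cfsg.solvableRadical G = ⊥)
    {z : G} (hz : orderOf z = 2) : ∃ g : G, Commute z (g * z * g⁻¹) ∧ g * z * g⁻¹ ≠ z := by
  by_contra hno
  push Not at hno
  have hiso : Cfsg.IsIsolatedInvolution z := ⟨hz, hno⟩
  have hcore : Cfsg.pPrimeCore 2 G = ⊥ := by
    refine eq_bot_of_solvable hR inferInstance (CfsgLib.PF.oddSolvable _ ?_)
    rw [← Nat.not_even_iff_odd, even_iff_two_dvd]
    exact CfsgLib.PCore.not_dvd_card_pPrimeCore
  have hzc : z ∈ center G := mem_center_iff.2 fun g => by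
    have := CfsgLib.Involutions.zstar G z hiso g
    rw [hcore, mem_bot] at this
    exact mul_inv_eq_iff_eq_mul.1 (mul_inv_eq_one.1 this)
  have hc : center G = ⊥ := eq_bot_of_solvable hR inferInstance
    (Group.isSolvable_of_comm fun x y => Subtype.ext (mem_center_iff.1 y.2 x))
  rw [hc, mem_bot] at hzc
  rw [hzc, orderOf_one] at hz
  omega

variable {G : Type u} [Group G] [Finite G] {T : Sylow 2 G} {a b u w : (T : Subgroup G)}
  {K : Subgroup G}

/-- The fusion-theoretic core: an index two subgroup contains both involutions but neither factor. -/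
structure Core (T : Sylow 2 G) (a b u w : (T : Subgroup G)) (K : Subgroup G) : Prop where
  bic : Bic a b
  index : K.index = 2
  ha : (a : G) ∉ K
  hb : (b : G) ∉ K
  hu : u ∈ zpowers a
  hw : w ∈ zpowers b
  uu : u * u = 1
  ww : w * w = 1
  u1 : u ≠ 1
  w1 : w ≠ 1
  uK : (u : G) ∈ K
  wK : (w : G) ∈ K
  disj : ∀ x ∈ zpowers a, ∀ y ∈ zpowers b, IsConj (x : G) (y : G) → x = 1
  rad : Cfsg.solvableRadical G = ⊥

namespace Core

theorem symm (c : Core T a b u w K) : Core T b a w u K where
  bic := c.bic.swap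
  index := c.index
  ha := c.hb
  hb := c.ha
  hu := c.hw
  hw := c.hu
  uu := c.ww
  ww := c.uu
  u1 := c.w1
  w1 := c.u1
  uK := c.wK
  wK := c.uK
  disj x hx y hy e := by
    have hy1 := c.disj y hy x hx e.symm
    rw [hy1, OneMemClass.coe_one, isConj_one_left] at e
    exact Subtype.ext e
  rad := c.rad

theorem a_ne (c : Core T a b u w K) : a ≠ 1 := fun e => c.ha (by rw [e]; exact K.one_mem)

theorem a_sq (c : Core T a b u w K) : a * a ≠ 1 := fun e => by
  have := invol_unique (mem_zpowers a) c.hu e c.uu c.a_ne c.u1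
  exact c.ha (this ▸ c.uK)

theorem b_sq (c : Core T a b u w K) : b * b ≠ 1 := c.symm.a_sq

theorem mem_iff_parity (c : Core T a b u w K) (i j : ℤ) :
    ((a ^ i * b ^ j : (T : Subgroup G)) : G) ∈ K ↔ (Even i ↔ Even j) := by
  rw [Subgroup.coe_mul, coe_zpow, coe_zpow, mul_mem_iff_of_index_two c.index,
    Bic.zpow_mem_index_two c.index c.ha, Bic.zpow_mem_index_two c.index c.hb]

theorem commute_uw (c : Core T a b u w K) : Commute u w :=
  c.bic.commute_invol c.hu c.hw c.uu c.ww

/-- An involution of `T ∩ K`. -/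
theorem cases_invol (c : Core T a b u w K) {x : (T : Subgroup G)} (hx : x * x = 1)
    (hK : (x : G) ∈ K) : (x = 1 ∨ x = u ∨ x = w ∨ x = u * w) ∨
      ∃ i j : ℤ, Odd i ∧ Odd j ∧ x = a ^ i * b ^ j := by
  obtain ⟨i, j, rfl⟩ := c.bic.fact x
  have hp := (c.mem_iff_parity i j).1 hK
  rcases Int.even_or_odd i with hi | hi
  · left
    obtain ⟨e1, e2⟩ := c.bic.sq_of_even_even hi (hp.1 hi) hx
    have c1 : a ^ i = 1 ∨ a ^ i = u := or_iff_not_imp_left.2 fun hne =>
      invol_unique ⟨i, rfl⟩ c.hu e1 c.uu hne c.u1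
    have c2 : b ^ j = 1 ∨ b ^ j = w := or_iff_not_imp_left.2 fun hne =>
      invol_unique ⟨j, rfl⟩ c.hw e2 c.ww hne c.w1
    rcases c1 with c1 | c1 <;> rcases c2 with c2 | c2 <;> simp [c1, c2]
  · exact Or.inr ⟨i, j, hi, Int.not_even_iff_odd.1 fun hj => Int.not_even_iff_odd.2 hi (hp.2 hj), rfl⟩

omit [Finite G] in
theorem not_isConj_uw (c : Core T a b u w K) : ¬ IsConj (u : G) (w : G) := fun e =>
  c.u1 (c.disj u c.hu w c.hw e)

/-- `a` moves a non-central `w`. -/
theorem conj_w (c : Core T a b u w K) (hw : w ∉ center (T : Subgroup G)) :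
    a * w * a⁻¹ = u * w := by
  rcases c.symm.bic.conj_invol c.b_sq c.a_sq c.hw c.hu c.ww c.w1 c.uu c.u1 a with e | e
  · exfalso
    apply hw
    refine mem_center_iff.2 fun g => ?_
    obtain ⟨i, j, rfl⟩ := c.bic.fact g
    have h1 : Commute a w := mul_inv_eq_iff_eq_mul.1 e
    have h2 : Commute b w := by
      obtain ⟨l, rfl⟩ := c.hw
      exact (Commute.refl b).zpow_right l
    exact ((h1.zpow_left i).mul_left (h2.zpow_left j)).eq
  · rw [e, c.commute_uw.eq]

omit [Finite G] in
theorem isConj_coe {x y g : (T : Subgroup G)} (e : g * x * g⁻¹ = y) : IsConj (x : G) (y : G) :=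
  isConj_iff.2 ⟨g, by rw [← e]; simp⟩

theorem not_both_noncentral (c : Core T a b u w K) (hu : u ∉ center (T : Subgroup G))
    (hw : w ∉ center (T : Subgroup G)) : False := by
  have h1 := isConj_coe (c.conj_w hw)
  have h2 := isConj_coe (c.symm.conj_w hu)
  rw [← c.commute_uw.eq] at h2
  exact c.not_isConj_uw (h2.trans h1.symm)

/-- A commuting second conjugate inside `T`. -/
theorem exists_conj_in (hR : Cfsg.solvableRadical G = ⊥) {z : (T : Subgroup G)}
    (hz : z ∈ center (T : Subgroup G)) (hzz : z * z = 1) (hz1 : z ≠ 1) :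
    ∃ y : (T : Subgroup G), y ≠ z ∧ y * y = 1 ∧ y ≠ 1 ∧ IsConj (z : G) (y : G) := by
  haveI : Fact (Nat.Prime 2) := ⟨Nat.prime_two⟩
  have hzo : orderOf (z : G) = 2 := orderOf_eq_prime
    (by rw [pow_two, ← Subgroup.coe_mul, hzz, OneMemClass.coe_one]) (fun e => hz1 (Subtype.ext e))
  obtain ⟨g, hgc, hgne⟩ := exists_conj_commute hR hzo
  set x := g * (z : G) * g⁻¹ with hx
  have hTC : (T : Subgroup G) ≤ centralizer {(z : G)} := fun t ht =>
    mem_centralizer_singleton_iff.2 (congrArg Subtype.val (mem_center_iff.1 hz ⟨t, ht⟩))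
  have hxC : x ∈ centralizer {(z : G)} := mem_centralizer_singleton_iff.2 hgc.eq.symm
  have hxp : IsPGroup 2 (zpowers (⟨x, hxC⟩ : centralizer {(z : G)})) := by
    apply IsPGroup.of_card (n := 1)
    rw [Nat.card_zpowers, orderOf_mk, hx, ← MulAut.conj_apply, MulEquiv.orderOf_eq, hzo, pow_one]
  obtain ⟨Q, hQ⟩ := hxp.exists_le_sylow
  obtain ⟨h, hh⟩ := MulAction.exists_smul_eq (centralizer {(z : G)}) Q (T.subtype hTC)
  have hm : (h * ⟨x, hxC⟩ * h⁻¹ : centralizer {(z : G)}) ∈ (T.subtype hTC : Subgroup _) := by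
    rw [← hh]
    exact ⟨⟨x, hxC⟩, hQ (mem_zpowers _), rfl⟩
  rw [Sylow.coe_subtype, mem_subgroupOf] at hm
  refine ⟨⟨_, hm⟩, fun e => hgne ?_, ?_, fun e => ?_, ?_⟩
  · have e' : (h : G) * x * (h : G)⁻¹ = z := by simpa using congrArg Subtype.val e
    have hhz := mem_centralizer_singleton_iff.1 h.2
    calc x = (h : G)⁻¹ * ((h : G) * x * (h : G)⁻¹) * h := by group
      _ = (h : G)⁻¹ * ((z : G) * h) := by rw [e', mul_assoc]
      _ = z := by rw [← hhz]; group
  · apply Subtype.ext
    show ((h * ⟨x, hxC⟩ * h⁻¹ : centralizer {(z : G)}) : G) * _ = 1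
    simp only [Subgroup.coe_mul, InvMemClass.coe_inv]
    rw [show (h : G) * x * (h : G)⁻¹ * ((h : G) * x * (h : G)⁻¹) = (h : G) * (x * x) * (h : G)⁻¹ by
      group, hx, show g * (z : G) * g⁻¹ * (g * (z : G) * g⁻¹) = g * ((z : G) * z) * g⁻¹ by group,
      ← Subgroup.coe_mul, hzz]
    simp
  · have e' : (h : G) * x * (h : G)⁻¹ = 1 := by simpa using congrArg Subtype.val e
    rw [hx] at e'
    apply hz1
    apply Subtype.ext
    simpa [mul_assoc, mul_eq_one_iff_eq_inv] using e'
  · refine isConj_iff.2 ⟨(h : G) * g, ?_⟩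
    simp [hx, mul_assoc]

/-- Central involutions of `T ∩ K`. -/
theorem central_cases (c : Core T a b u w K) {x : (T : Subgroup G)}
    (hxc : x ∈ center (T : Subgroup G)) (hx : x * x = 1) (hK : (x : G) ∈ K) :
    x = 1 ∨ x = u ∨ x = w ∨ x = u * w := by
  rcases c.cases_invol hx hK with h | ⟨i, j, -, hj, rfl⟩
  · exact h
  · exact absurd hxc (c.bic.not_mem_center c.b_sq hj hx)

theorem not_isConj_u_uw (c : Core T a b u w K) (hu : u ∈ center (T : Subgroup G))
    (hw : w ∈ center (T : Subgroup G)) : ¬ IsConj (u : G) ((u * w : (T : Subgroup G)) : G) := by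
  haveI : Fact (Nat.Prime 2) := ⟨Nat.prime_two⟩
  intro hc
  obtain ⟨g, hg⟩ := isConj_iff.1 hc
  have hcent : ∀ z : (T : Subgroup G), z ∈ center (T : Subgroup G) →
      (z : G) ∈ centralizer ((T : Subgroup G) : Set G) := fun z hz =>
    mem_centralizer_iff.2 fun t ht => congrArg Subtype.val (mem_center_iff.1 hz ⟨t, ht⟩)
  obtain ⟨n, hn, hne⟩ := T.conj_eq_normalizer_conj_of_mem_centralizer (u : G) g⁻¹ (hcent u hu)
    (by rw [inv_inv, hg]; exact hcent _ (mul_mem hu hw))
  rw [inv_inv, hg] at hne
  set m := n⁻¹ with hm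
  have hmN : m ∈ normalizer (T : Set G) := inv_mem hn
  have hmu : m * (u : G) * m⁻¹ = ((u * w : (T : Subgroup G)) : G) := by rw [hne, hm, inv_inv]
  haveI := normal_of_index_eq_two c.index
  have hfw : m * (w : G) * m⁻¹ = w := by
    have hT : m * (w : G) * m⁻¹ ∈ (T : Subgroup G) := (mem_normalizer_iff.1 hmN _).1 w.2
    have hyc : (⟨_, hT⟩ : (T : Subgroup G)) ∈ center (T : Subgroup G) := by
      refine mem_center_iff.2 fun t => Subtype.ext ?_
      have ht : m⁻¹ * (t : G) * m ∈ (T : Subgroup G) := by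
        simpa using (mem_normalizer_iff.1 (inv_mem hmN) _).1 t.2
      have h1 : m⁻¹ * (t : G) * m * (w : G) = (w : G) * (m⁻¹ * (t : G) * m) :=
        congrArg Subtype.val (mem_center_iff.1 hw ⟨_, ht⟩)
      calc (t : G) * (m * (w : G) * m⁻¹) = m * (m⁻¹ * (t : G) * m * w) * m⁻¹ := by group
        _ = m * ((w : G) * (m⁻¹ * (t : G) * m)) * m⁻¹ := by rw [h1]
        _ = m * (w : G) * m⁻¹ * t := by group
    have hyy : (⟨_, hT⟩ : (T : Subgroup G)) * ⟨_, hT⟩ = 1 := Subtype.ext (by
      show m * (w : G) * m⁻¹ * (m * (w : G) * m⁻¹) = 1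
      rw [show m * (w : G) * m⁻¹ * (m * (w : G) * m⁻¹) = m * ((w : G) * w) * m⁻¹ by group,
        ← Subgroup.coe_mul, c.ww]
      simp)
    rcases c.central_cases hyc hyy (normal_of_index_eq_two c.index |>.conj_mem _ c.wK m)
      with e | e | e | e
    · have e' := congrArg Subtype.val e
      exact absurd (Subtype.ext (by simpa [mul_assoc, mul_eq_one_iff_eq_inv] using e')) c.w1
    · exact absurd (isConj_iff.2 ⟨m, congrArg Subtype.val e⟩).symm c.not_isConj_uw
    · exact congrArg Subtype.val e
    · have e' : m * (w : G) * m⁻¹ = m * (u : G) * m⁻¹ := (congrArg Subtype.val e).trans hmu.symm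
      exact absurd (mul_left_cancel (mul_right_cancel e')) fun e'' =>
        c.not_isConj_uw (e'' ▸ IsConj.refl (w : G))
  have hfuw : m * ((u * w : (T : Subgroup G)) : G) * m⁻¹ = u := by
    rw [Subgroup.coe_mul, show m * ((u : G) * w) * m⁻¹ = m * (u : G) * m⁻¹ * (m * (w : G) * m⁻¹) by
      group, hmu, hfw, Subgroup.coe_mul, mul_assoc, ← Subgroup.coe_mul, c.ww, OneMemClass.coe_one,
      mul_one]
  obtain ⟨e, k, hk, hek⟩ := Nat.exists_eq_two_pow_mul_odd (orderOf_pos m).ne'
  have hmk : m ^ k ∈ (T : Subgroup G) := by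
    have hp : IsPGroup 2 (zpowers (m ^ k)) := by
      rintro ⟨_, i, rfl⟩
      refine ⟨e, Subtype.ext ?_⟩
      show ((m ^ k) ^ i) ^ 2 ^ e = 1
      rw [← zpow_natCast, ← zpow_mul, mul_comm, zpow_mul, zpow_natCast, ← pow_mul, mul_comm k,
        ← hek, pow_orderOf_eq_one, one_zpow]
    have := hp.inf_normalizer_sylow T
    rw [inf_eq_left.2 (zpowers_le.2 (pow_mem hmN k))] at this
    exact (inf_eq_left.1 this.symm) (mem_zpowers _)
  have hfix : m ^ k * (u : G) * (m ^ k)⁻¹ = u := by
    rw [show m ^ k * (u : G) = u * m ^ k from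
      congrArg Subtype.val (mem_center_iff.1 hu ⟨_, hmk⟩), mul_inv_cancel_right]
  obtain ⟨l, rfl⟩ := hk
  have hev : ∀ l : ℕ, m ^ (2 * l) * (u : G) * (m ^ (2 * l))⁻¹ = u := by
    intro l
    induction l with
    | zero => simp
    | succ l ih =>
      rw [show 2 * (l + 1) = 1 + 1 + 2 * l by ring, pow_add, pow_add, pow_one,
        show m * m * m ^ (2 * l) * (u : G) * (m * m * m ^ (2 * l))⁻¹
          = m * (m * (m ^ (2 * l) * (u : G) * (m ^ (2 * l))⁻¹) * m⁻¹) * m⁻¹ by group, ih, hmu, hfuw]
  rw [pow_succ', show m * m ^ (2 * l) * (u : G) * (m * m ^ (2 * l))⁻¹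
    = m * (m ^ (2 * l) * (u : G) * (m ^ (2 * l))⁻¹) * m⁻¹ by group, hev, hmu] at hfix
  exact c.w1 (mul_eq_left.1 (Subtype.ext hfix : u * w = u))

theorem not_both_central (c : Core T a b u w K) (hu : u ∈ center (T : Subgroup G))
    (hw : w ∈ center (T : Subgroup G)) : False := by
  have n1 := c.not_isConj_uw
  have n2 := c.not_isConj_u_uw hu hw
  have n3 : ¬ IsConj (w : G) ((u * w : (T : Subgroup G)) : G) := by
    rw [c.commute_uw.eq]; exact c.symm.not_isConj_u_uw hw hu
  haveI := normal_of_index_eq_two c.index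
  have key : ∀ z : (T : Subgroup G), z ∈ center (T : Subgroup G) → z * z = 1 → z ≠ 1 →
      (z : G) ∈ K → ∃ y : (T : Subgroup G), IsConj (z : G) (y : G) ∧
        y * y = 1 ∧ ∃ i j : ℤ, Odd i ∧ Odd j ∧ y = a ^ i * b ^ j := by
    intro z hz hzz hz1 hzK
    obtain ⟨y, hyne, hyy, hy1, hyc⟩ := exists_conj_in c.rad hz hzz hz1
    refine ⟨y, hyc, hyy, ?_⟩
    obtain ⟨g, hg⟩ := isConj_iff.1 hyc
    rcases c.cases_invol hyy (hg ▸ (normal_of_index_eq_two c.index).conj_mem _ hzK g) with h | h
    · exfalso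
      rcases h with rfl | rfl | rfl | rfl
      · exact hy1 rfl
      all_goals
        rcases c.central_cases hz hzz hzK with rfl | rfl | rfl | rfl
      all_goals first
        | exact hz1 rfl
        | exact hyne rfl
        | exact n1 hyc
        | exact n1 hyc.symm
        | exact n2 hyc
        | exact n2 hyc.symm
        | exact n3 hyc
        | exact n3 hyc.symm
    · exact h
  have huw : (u * w) * (u * w) = 1 := by
    rw [show u * w * (u * w) = u * (w * u) * w by group, ← c.commute_uw.eq,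
      show u * (u * w) * w = (u * u) * (w * w) by group, c.uu, c.ww, one_mul]
  have huw1 : u * w ≠ 1 := fun e => by
    have : u = w := by rw [← inv_eq_of_mul_eq_one_right c.uu]; exact inv_eq_of_mul_eq_one_right e
    exact n1 (this ▸ IsConj.refl (u : G))
  obtain ⟨y1, h1, p1⟩ := key u hu c.uu c.u1 c.uK
  obtain ⟨y2, h2, p2⟩ := key w hw c.ww c.w1 c.wK
  obtain ⟨y3, h3, p3⟩ := key (u * w) (mul_mem hu hw) huw huw1 (by
    rw [Subgroup.coe_mul]; exact mul_mem c.uK c.wK)
  obtain ⟨k, l, hkl, hc⟩ := c.bic.exists_isConj c.a_ne c.symm.a_ne ![y1, y2, y3]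
    (fun k => by fin_cases k <;> assumption)
  obtain ⟨g, hg⟩ := isConj_iff.1 hc
  have hG := isConj_coe hg
  fin_cases k <;> fin_cases l <;> simp [-isConj_iff] at hkl hG
  · exact n1 ((h1.trans hG).trans h2.symm)
  · exact n2 ((h1.trans hG).trans h3.symm)
  · exact n1 ((h1.trans hG.symm).trans h2.symm)
  · exact n3 ((h2.trans hG).trans h3.symm)
  · exact n2 ((h1.trans hG.symm).trans h3.symm)
  · exact n3 ((h2.trans hG.symm).trans h3.symm)

/-- The case of one central and one non-central involution, inside a simple normal subgroup. -/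
theorem not_mixed (c : Core T a b u w K) (hDC : DihedralClassification.{u}) (S : Subgroup G)
    [S.Normal] [IsSimpleGroup S] (hS : ¬ IsMulCommutative S) (hSK : S ≤ K) (huS : (u : G) ∈ S)
    (hwS : (w : G) ∈ S) (hu : u ∈ center (T : Subgroup G))
    (hw : w ∉ center (T : Subgroup G)) : False := by
  classical
  haveI : Fact (Nat.Prime 2) := ⟨Nat.prime_two⟩
  have haw := c.conj_w hw
  have hbw : b * w * b⁻¹ = w := by
    obtain ⟨l, hl⟩ := c.hw
    rw [← hl, show b * b ^ l = b ^ l * b from ((Commute.refl b).zpow_right l).eq,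
      mul_inv_cancel_right]
  have hau : a * u * a⁻¹ = u := by rw [mem_center_iff.1 hu a, mul_inv_cancel_right]
  -- involutions of `T ∩ K` commuting with `w`
  have hcomm : ∀ x : (T : Subgroup G), x * x = 1 → (x : G) ∈ K → Commute x w →
      x = 1 ∨ x = u ∨ x = w ∨ x = u * w := by
    intro x hx hK hxw
    refine (c.cases_invol hx hK).resolve_right ?_
    rintro ⟨i, j, hi, -, rfl⟩
    have hbw' : Commute b w := mul_inv_eq_iff_eq_mul.1 hbw
    have hb : Commute (b ^ j) w := hbw'.zpow_left j
    have ha : Commute (a ^ i) w := by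
      have := hxw.mul_left hb.inv_left
      rwa [mul_inv_cancel_right] at this
    obtain ⟨k, rfl⟩ := hi
    have h2 : Commute (a * a) w := by
      refine mul_inv_eq_iff_eq_mul.1 ?_
      rw [show a * a * w * (a * a)⁻¹ = a * (a * w * a⁻¹) * a⁻¹ by group, haw,
        show a * (u * w) * a⁻¹ = a * u * a⁻¹ * (a * w * a⁻¹) by group, hau, haw, ← mul_assoc, c.uu,
        one_mul]
    rw [zpow_add, zpow_one, two_mul, zpow_add, ← (Commute.refl a).mul_zpow] at ha
    have ha' : Commute a w := by
      have := (h2.zpow_left k).inv_left.mul_left ha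
      rwa [inv_mul_cancel_left] at this
    apply c.u1
    have : u * w = w := by rw [← haw, ha'.eq, mul_inv_cancel_right]
    exact mul_eq_right.1 this
  -- rank two
  obtain ⟨P, hP⟩ := CfsgLib.Struct76.exists_sylow_inf_normal T S
  have h2S : Cfsg.PRankLE 2 2 S := by
    intro E hEc hE2
    obtain ⟨Q, hQ⟩ := IsPGroup.exists_le_sylow (p := 2) (P := E) (fun x => ⟨1, Subtype.ext (by
      simpa using hE2 x x.2)⟩)
    obtain ⟨s, hs⟩ := MulAction.exists_smul_eq S Q P
    -- move `E` into `T`
    let φ : E →* G := (S.subtype.comp (MulAut.conj s).toMonoidHom).comp E.subtype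
    have hφ : Function.Injective φ :=
      (S.subtype_injective.comp (MulAut.conj s).injective).comp E.subtype_injective
    have hφT : ∀ x, φ x ∈ (T : Subgroup G) := fun x => by
      have : MulAut.conj s (x : S) ∈ (P : Subgroup S) := by
        rw [← hs]; exact ⟨x, hQ x.2, rfl⟩
      rw [hP, mem_subgroupOf] at this
      exact this
    let f : E → (T : Subgroup G) := fun x => ⟨φ x, hφT x⟩
    have hf : Function.Injective f := fun x y e => hφ (congrArg Subtype.val e :)
    have hmul : ∀ x y, f (x * y) = f x * f y := fun x y => Subtype.ext (map_mul φ x y)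
    have hcc : ∀ x y, Commute (f x) (f y) := fun x y => by
      show f x * f y = f y * f x
      rw [← hmul, ← hmul, mul_comm']
    have hsq : ∀ x, f x * f x = 1 := fun x => by
      have hx : (x * x : E) = 1 := Subtype.ext (by simpa [pow_two] using hE2 x x.2)
      rw [← hmul, hx]
      exact Subtype.ext (map_one φ)
    have hfK : ∀ x, (f x : G) ∈ K := fun x => hSK (MulAut.conj s (x : S)).2
    let W : Finset (T : Subgroup G) := {1, u, w, u * w}
    have hW : W.card ≤ 4 := Finset.card_le_four
    by_cases hall : ∃ x, f x = w ∨ f x = u * w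
    · have hin : ∀ y, f y ∈ W := by
        intro y
        obtain ⟨x, hx⟩ := hall
        have hyw : Commute (f y) w := by
          rcases hx with hx | hx
          · exact hx ▸ hcc y x
          · have h1 : Commute (f y) (u * w) := hx ▸ hcc y x
            have h2 : Commute (f y) u := mem_center_iff.1 hu (f y)
            have := h2.inv_right.mul_right h1
            rwa [inv_mul_cancel_left] at this
        rcases hcomm _ (hsq y) (hfK y) hyw with e | e | e | e <;> simp [W, e]
      calc Nat.card E ≤ Nat.card W := Nat.card_le_card_of_injective (fun y => (⟨f y, hin y⟩ : W))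
            (fun x y e => hf (congrArg Subtype.val e :))
        _ ≤ 2 ^ 2 := by rw [Nat.card_eq_finsetCard]; exact hW
    · push Not at hall
      -- the elements outside `{1, u}` lie in one coset
      by_cases hex : ∃ z, f z ≠ 1 ∧ f z ≠ u
      · obtain ⟨z, hz1, hzu⟩ := hex
        have hodd : ∀ x, f x ≠ 1 → f x ≠ u → ∃ i j : ℤ, Odd i ∧ Odd j ∧ f x = a ^ i * b ^ j :=
          fun x h1 h2 => (c.cases_invol (hsq x) (hfK x)).resolve_left fun h => by
            rcases h with e | e | e | e
            exacts [h1 e, h2 e, (hall x).1 e, (hall x).2 e]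
        obtain ⟨H, hH, hbH, haH⟩ := c.bic.exists_half c.a_ne
        have hpar : ∀ x, f x ≠ 1 → f x ≠ u → f x ∉ H := fun x h1 h2 => by
          obtain ⟨i, j, hi, -, e⟩ := hodd x h1 h2
          rw [e, Bic.mem_iff hH hbH haH]
          exact Int.not_even_iff_odd.2 hi
        have huH : u ∈ H := by
          obtain ⟨k, hk⟩ := Bic.exists_sq_zpow c.bic.isP c.a_sq c.hu c.uu
          exact hk ▸ zpow_mem (mul_self_mem_of_index_two hH a) k
        let F : Finset (T : Subgroup G) := {1, u, f z, f z * u}
        have hin : ∀ y, f y ∈ F := by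
          intro y
          by_cases hy : f y = 1 ∨ f y = u
          · rcases hy with e | e <;> simp [F, e]
          push Not at hy
          have hprod : f (z * y) ∈ H := by
            rw [hmul]
            exact (mul_mem_iff_of_index_two hH).2
              (iff_of_false (hpar z hz1 hzu) (hpar y hy.1 hy.2))
          by_cases h3 : f (z * y) = 1 ∨ f (z * y) = u
          · rw [hmul] at h3
            rcases h3 with e | e
            · have : f y = f z := by
                rw [← inv_eq_of_mul_eq_one_right e, inv_eq_of_mul_eq_one_right (hsq z)]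
              simp [F, this]
            · have : f y = f z * u := by rw [← e, ← mul_assoc, hsq, one_mul]
              simp [F, this]
          · push Not at h3
            exact absurd hprod (hpar _ h3.1 h3.2)
        calc Nat.card E ≤ Nat.card F := Nat.card_le_card_of_injective (fun y => (⟨f y, hin y⟩ : F))
              (fun x y e => hf (congrArg Subtype.val e :))
          _ ≤ 2 ^ 2 := by rw [Nat.card_eq_finsetCard]; exact Finset.card_le_four
      · push Not at hex
        let F : Finset (T : Subgroup G) := {1, u}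
        have hin : ∀ y, f y ∈ F := fun y => by
          by_cases h1 : f y = 1
          · simp [F, h1]
          · simp [F, hex y h1]
        calc Nat.card E ≤ Nat.card F := Nat.card_le_card_of_injective (fun y => (⟨f y, hin y⟩ : F))
              (fun x y e => hf (congrArg Subtype.val e :))
          _ ≤ 2 ^ 2 := by rw [Nat.card_eq_finsetCard]; exact Finset.card_le_two.trans (by norm_num)
  have huo : orderOf (⟨u, huS⟩ : S) = 2 := by
    rw [orderOf_mk]
    exact orderOf_eq_prime (by rw [pow_two, ← Subgroup.coe_mul, c.uu, OneMemClass.coe_one])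
      (fun e => c.u1 (Subtype.ext e))
  have hwo : orderOf (⟨w, hwS⟩ : S) = 2 := by
    rw [orderOf_mk]
    exact orderOf_eq_prime (by rw [pow_two, ← Subgroup.coe_mul, c.ww, OneMemClass.coe_one])
      (fun e => c.w1 (Subtype.ext e))
  rcases isConj_or_herm hDC hS h2S P with h | h
  · exact c.not_isConj_uw (S.subtype.map_isConj (h _ _ huo hwo))
  -- `U₃(4)`: every involution of `T ∩ S` is central there
  obtain ⟨y, hyne, hyy, hy1, hyc⟩ := exists_conj_in c.rad hu c.uu c.u1
  obtain ⟨g, hg⟩ := isConj_iff.1 hyc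
  have hyS : (y : G) ∈ S := hg ▸ ‹S.Normal›.conj_mem _ huS g
  have hyP : (⟨y, hyS⟩ : S) ∈ (P : Subgroup S) := by rw [hP, mem_subgroupOf]; exact y.2
  have hwP : (⟨w, hwS⟩ : S) ∈ (P : Subgroup S) := by rw [hP, mem_subgroupOf]; exact w.2
  have hyw : Commute y w := by
    have := mem_center_iff.1 (h.sq_one ⟨_, hyP⟩ (Subtype.ext (Subtype.ext
      (congrArg Subtype.val hyy :)))) ⟨_, hwP⟩
    exact Subtype.ext (congrArg (fun z : (P : Subgroup S) => ((z : S) : G)) this.symm)
  rcases hcomm y hyy (hSK hyS) hyw with e | e | e | e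
  · exact hy1 e
  · exact hyne e
  · exact c.not_isConj_uw (e ▸ hyc)
  · rw [e] at hyc
    exact c.not_isConj_uw (hyc.trans (isConj_coe haw).symm)

/-- Both involutions in a simple normal subgroup contained in `K`: impossible. -/
theorem false_of_mem (c : Core T a b u w K) (hDC : DihedralClassification.{u}) (S : Subgroup G)
    [S.Normal] [IsSimpleGroup S] (hS : ¬ IsMulCommutative S) (hSK : S ≤ K) (huS : (u : G) ∈ S)
    (hwS : (w : G) ∈ S) : False := by
  by_cases hu : u ∈ center (T : Subgroup G) <;> by_cases hw : w ∈ center (T : Subgroup G)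
  · exact c.not_both_central hu hw
  · exact c.not_mixed hDC S hS hSK huS hwS hu hw
  · exact c.symm.not_mixed hDC S hS hSK hwS huS hw hu
  · exact c.not_both_noncentral hu hw

end Core

end CfsgLib.CyclicZFact
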