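import Mathlib
import Cfsg.Agent.Lib.CyclicZFact.Frame
import Cfsg.Agent.Lib.CyclicZFact.Recognize
import Cfsg.Agent.Lib.DimThreeMax.AutCard
import Cfsg.Agent.Lib.GWCons.TwoOuter
import Cfsg.Agent.Lib.PSL2.Projective
import Cfsg.Agent.Lib.PSL2.Line
import Cfsg.Agent.S2475
import Cfsg.Agent.S0813

/-!
# Recognition of `PGL₂(p)`
-/

set_option autoImplicit false
set_option linter.style.haveILetI false

open Subgroup

namespace CfsgLib.CyclicZFact

universe u

/-- A Z-group has order at most the square of the largest element order. -/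
theorem card_zgroup_le {H : Type*} [Group H] [Finite H] [IsZGroup H] {m : ℕ}
    (hm : ∀ x : H, orderOf x ≤ m) : Nat.card H ≤ m * m := by
  haveI : IsCyclic (commutator H) := IsZGroup.isCyclic_commutator H
  obtain ⟨c, hc⟩ := IsCyclic.exists_generator (α := commutator H)
  obtain ⟨q, hq⟩ := IsCyclic.exists_generator (α := Abelianization H)
  obtain ⟨x, rfl⟩ := QuotientGroup.mk_surjective q
  rw [card_eq_card_quotient_mul_card_subgroup (commutator H)]
  refine Nat.mul_le_mul ?_ ?_
  · change Nat.card (Abelianization H) ≤ m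
    rw [← orderOf_eq_card_of_forall_mem_zpowers hq]
    exact (Nat.le_of_dvd (orderOf_pos x) (orderOf_map_dvd (QuotientGroup.mk' _) x)).trans (hm x)
  · rw [← orderOf_eq_card_of_forall_mem_zpowers hc, ← Subgroup.orderOf_coe]
    exact hm c

section PSL

variable {F : Type} [Field F] [Fintype F] {p : ℕ} [Fact p.Prime] [CharP F p]

/-- In `PSL₂(q)` whatever commutes with an element of order `p` has order dividing `p`. -/
theorem pow_eq_one_of_commute {v g : Matrix.ProjectiveSpecialLinearGroup (Fin 2) F} (hv : v ≠ 1)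
    (hvp : v ^ p = 1) (hc : g * v = v * g) : g ^ p = 1 := by
  classical
  haveI : CharP (AlgebraicClosure F) p :=
    charP_of_injective_algebraMap (algebraMap F (AlgebraicClosure F)).injective p
  set ι := algebraMap F (AlgebraicClosure F)
  have hA := CfsgLib.PSL2.isLineAction (CfsgLib.PSL2.pslLineHom ι) p
    (CfsgLib.PSL2.pslLineHom_injective ι) (CfsgLib.PSL2.pslLineHom_mem_range ι)
  obtain ⟨x, hx⟩ := hA.exists_fix v hv
  have hgx := CfsgLib.PSL2.fix_of_commute_unip hA hv hvp hx hc
  by_contra hgp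
  obtain ⟨y, hyx, hgy⟩ := CfsgLib.PSL2.exists_second_fix hA hgp hgx
  exact hgp (by rw [CfsgLib.PSL2.eq_one_of_commute_unip hA hv hvp hyx.symm hx hgx hgy hc, one_pow])

end PSL

namespace Setting

variable {G : Type u} [Group G] [Finite G] {A B : Subgroup G}

/-- The basic inequality. -/
theorem card_le (h : Setting A B) (S : Subgroup G) {m : ℕ} (hm : ∀ x ∈ S, orderOf x ≤ m) :
    Nat.card S ≤ Nat.card A * (m * m) := by
  haveI := h.zg
  have h1 : B.relIndex S ≤ Nat.card A := by
    have hidx : B.index = Nat.card A := by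
      refine Nat.eq_of_mul_eq_mul_left (Nat.card_pos (α := B)) ?_
      rw [card_mul_index, ← h.card_mul, mul_comm]
    rw [← hidx, ← relIndex_top_right]
    exact relIndex_le_of_le_right le_top (by rw [relIndex_top_right]; exact index_ne_zero_of_finite)
  haveI : IsZGroup (B.subgroupOf S) := IsZGroup.of_injective
    (f := (S.subtype.comp (B.subgroupOf S).subtype).codRestrict B fun x => x.2)
    (fun x y e => Subtype.ext (Subtype.ext (congrArg Subtype.val e :)))
  have h2 : Nat.card (B.subgroupOf S) ≤ m * m := card_zgroup_le fun x => by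
    rw [← Subgroup.orderOf_coe, ← Subgroup.orderOf_coe]
    exact hm _ (x : S).2
  rw [← (B.subgroupOf S).card_mul_index, mul_comm (Nat.card A)]
  exact Nat.mul_le_mul h2 h1

/-- The socle is not the alternating group of degree seven. -/
theorem not_alt_seven (h : Setting A B) (S : Subgroup G) [S.Normal]
    (hC : centralizer (S : Set G) = ⊥) (e : S ≃* alternatingGroup (Fin 7)) : False := by
  haveI := h.cyc
  have hinj : Function.Injective ((MulAut.congr e).toMonoidHom.comp (MulAut.conjNormal (H := S))) := by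
    refine (MulAut.congr e).injective.comp ((injective_iff_map_eq_one _).2 fun g hg => ?_)
    have : g ∈ centralizer (S : Set G) := mem_centralizer_iff.2 fun s hs => by
      have := congrArg Subtype.val (DFunLike.congr_fun hg ⟨s, hs⟩)
      rw [MulAut.conjNormal_apply, MulAut.one_apply] at this
      exact (mul_inv_eq_iff_eq_mul.1 this).symm
    rwa [hC, mem_bot] at this
  have hG := Nat.card_le_card_of_injective _ hinj
  rw [CfsgLib.DimThreeMax.card_mulAut_alt_seven] at hG
  have hS : Nat.card S = 2520 := by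
    rw [Nat.card_congr e.toEquiv, CfsgLib.DimThreeMax.card_alt_seven]
  have hidx : S.index ≤ 2 := by
    have := S.card_mul_index
    rw [hS] at this
    omega
  have hm : ∀ x ∈ S, orderOf x ≤ 7 := fun x hx => by
    rw [← Subgroup.orderOf_mk x hx, ← MulEquiv.orderOf_eq e]
    have := CfsgLib.Mitchell.orderOf_alt_seven (e ⟨x, hx⟩)
    simp only [Finset.mem_insert, Finset.mem_singleton] at this
    omega
  have hA : Nat.card A ≤ 14 := by
    obtain ⟨a, ha⟩ := IsCyclic.exists_generator (α := A)
    rw [← orderOf_eq_card_of_forall_mem_zpowers ha, ← Subgroup.orderOf_coe]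
    have hpos : 0 < S.index := Nat.pos_of_ne_zero index_ne_zero_of_finite
    have h2 := hm _ (S.pow_index_mem (a : G))
    rw [orderOf_pow] at h2
    have h3 := Nat.div_mul_cancel (Nat.gcd_dvd_left (orderOf (a : G)) S.index)
    have h4 : Nat.gcd (orderOf (a : G)) S.index ≤ 2 := (Nat.gcd_le_right _ hpos).trans hidx
    calc orderOf (a : G) = _ := h3.symm
      _ ≤ 7 * 2 := Nat.mul_le_mul h2 h4
  have := h.card_le S hm
  rw [hS] at this
  have := Nat.mul_le_mul_right 49 hA
  omega

/-- A socle `PSL₂(q)` forces `G ≅ PGL₂(p)`. -/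
theorem pgl_of_psl (h : Setting A B) (h2A : 2 ∣ Nat.card A) (S : Subgroup G) [S.Normal]
    [IsSimpleGroup S] (hSc : ¬ IsMulCommutative S) (hC : centralizer (S : Set G) = ⊥)
    {F : Type} [Field F] [Fintype F] (hodd : Odd (Fintype.card F)) (h3 : 3 < Fintype.card F)
    (e : S ≃* Matrix.ProjectiveSpecialLinearGroup (Fin 2) F) :
    ∃ p : ℕ, p.Prime ∧ 3 < p ∧ Fintype.card F = p ∧
      Nonempty (G ≃* (GL (Fin 2) F ⧸ center (GL (Fin 2) F))) := by
  haveI := h.cyc
  haveI := h.zg
  obtain ⟨p, hcp⟩ := CharP.exists F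
  obtain ⟨n, hp, hF⟩ := FiniteField.card F p
  obtain ⟨f, hf0⟩ : ∃ f : ℕ, f = n := ⟨n, rfl⟩
  rw [← hf0] at hF
  have hf1 : 1 ≤ f := hf0 ▸ n.2
  haveI := Fact.mk hp
  set X := Matrix.ProjectiveSpecialLinearGroup (Fin 2) F
  set q := Fintype.card F with hq
  have hqodd : q % 2 = 1 := Nat.odd_iff.1 hodd
  have hp3 : 3 ≤ p := by
    have := hp.two_le
    by_contra hh
    obtain rfl : p = 2 := by omega
    rw [hF] at hqodd
    have : 2 ∣ 2 ^ f := dvd_pow_self 2 (by omega)
    omega
  have hgcd : Nat.gcd 2 (q - 1) = 2 := Nat.gcd_eq_left (by omega)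
  have hX : 2 * Nat.card X = (q + 1) * (q * (q - 1)) := by
    have := CfsgLib.PSL2.card_psl (F := F)
    rwa [← hq, hgcd] at this
  have hS : Nat.card S = Nat.card X := Nat.card_congr e.toEquiv
  have hAut : Nat.card (MulAut X) = 2 * f * Nat.card X := by
    rw [Cfsg.Agent.S0813.result (F := F) p f hf1 hF 2 le_rfl (fun _ => by omega), if_pos rfl,
      CfsgLib.PSL2.card_pgl, ← hq, one_mul, mul_comm 2 f, mul_assoc, hX]
  let φ : G →* MulAut X := (MulAut.congr e).toMonoidHom.comp (MulAut.conjNormal (H := S))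
  have hinj : Function.Injective φ := by
    refine (MulAut.congr e).injective.comp ((injective_iff_map_eq_one _).2 fun g hg => ?_)
    have : g ∈ centralizer (S : Set G) := mem_centralizer_iff.2 fun s hs => by
      have := congrArg Subtype.val (DFunLike.congr_fun hg ⟨s, hs⟩)
      rw [MulAut.conjNormal_apply, MulAut.one_apply] at this
      exact (mul_inv_eq_iff_eq_mul.1 this).symm
    rwa [hC, mem_bot] at this
  have hidx : S.index ∣ 2 * f := by
    refine Nat.dvd_of_mul_dvd_mul_left (Nat.card_pos (α := S)) ?_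
    rw [card_mul_index, hS, mul_comm (Nat.card X), ← hAut]
    exact card_dvd_of_injective φ hinj
  have horders : ∀ x ∈ S, orderOf x ∣ p ∨ orderOf x ∣ (q - 1) / 2 ∨ orderOf x ∣ (q + 1) / 2 := by
    intro x hx
    have hr : orderOf x ∈ Set.range (orderOf : X → ℕ) :=
      ⟨e ⟨x, hx⟩, by rw [MulEquiv.orderOf_eq, Subgroup.orderOf_mk]⟩
    rw [Cfsg.Agent.S2475.result (F := F) p (by omega), ← hq, hgcd] at hr
    exact hr
  by_cases hf : f = 1
  · subst hf
    rw [pow_one] at hF
    refine ⟨p, hp, by omega, hF, ?_⟩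
    have h2 : S.index = 2 := by
      rcases (Nat.dvd_prime Nat.prime_two).1 (by simpa using hidx) with h1 | h1
      · exfalso
        obtain ⟨K, hK, hAK⟩ := h.exists_index_two h2A
        haveI := normal_of_index_eq_two hK
        rw [index_eq_one] at h1
        rcases (inferInstance : (K.subgroupOf S).Normal).eq_bot_or_eq_top with e1 | e1
        · have hd : K ⊓ S = ⊥ := by rw [← subgroupOf_map_subtype, e1, Subgroup.map_bot]
          rw [h1, inf_top_eq] at hd
          rw [hd, index_bot, ← Subgroup.card_top (G := G), ← h1] at hK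
          haveI : Fact (Nat.Prime 2) := ⟨Nat.prime_two⟩
          haveI := isCyclic_of_prime_card hK
          exact hSc IsCyclic.isMulCommutative
        · exact hAK (le_top.trans (h1 ▸ subgroupOf_eq_top.1 e1))
      · exact h1
    have hcard : Nat.card G = Nat.card (MulAut X) := by
      rw [hAut, ← S.card_mul_index, h2, hS]; ring
    have hbij : Function.Bijective φ := hinj.bijective_of_nat_card_le hcard.ge
    let c : GL (Fin 2) F →* MulAut X := CfsgLib.AutPSL.conjAut
    have hring : Subsingleton (F ≃+* F) := (Nat.card_eq_one_iff_unique.1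
      (CfsgLib.FieldGalois.card_ringAut (p := p) (f := 1) (by rw [pow_one]; exact hF))).1
    have hsurj : Function.Surjective c := fun β => by
      obtain ⟨g, σ, rfl⟩ := CfsgLib.GWCons.TwoOuter.exists_conj_field β
      rw [Subsingleton.elim σ 1, map_one, mul_one]
      exact ⟨g, rfl⟩
    have hker : c.ker = center (GL (Fin 2) F) := by
      ext g
      rw [MonoidHom.mem_ker, CfsgLib.AutPSL.conjAut_eq_one_iff le_rfl,
        Matrix.GeneralLinearGroup.center_eq_range_scalar, MonoidHom.mem_range]
      exact exists_congr fun u => eq_comm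
    exact ⟨(MulEquiv.ofBijective φ hbij).trans
      ((QuotientGroup.quotientKerEquivOfSurjective c hsurj).symm.trans
        (QuotientGroup.quotientMulEquivOfEq hker))⟩
  exfalso
  have hf2 : 2 ≤ f := by omega
  have hqp : p * p ≤ q := by
    rw [hF, ← pow_two]; exact Nat.pow_le_pow_right hp.pos hf2
  have hm : ∀ x ∈ S, orderOf x ≤ (q + 1) / 2 := fun x hx => by
    have h3p := Nat.mul_le_mul_right p hp3
    rcases horders x hx with h1 | h1 | h1
    · have := Nat.le_of_dvd hp.pos h1; omega
    · have := Nat.le_of_dvd (by omega) h1; omega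
    · exact Nat.le_of_dvd (by omega) h1
  set i := S.index
  have hi0 : 0 < i := Nat.pos_of_ne_zero index_ne_zero_of_finite
  have hile : i ≤ 2 * f := Nat.le_of_dvd (by omega) hidx
  have hdvd : ∀ X : Subgroup G, Nat.card X ∣ Nat.card (S.subgroupOf X) * i := fun X => by
    rw [← (S.subgroupOf X).card_mul_index]
    exact mul_dvd_mul_left _ (relIndex_dvd_index_of_normal S X)
  have hSA := hdvd A
  have hSB := hdvd B
  set a₀ := Nat.card (S.subgroupOf A) with ha₀
  set b₀ := Nat.card (S.subgroupOf B) with hb₀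
  by_cases hpa : p ∣ a₀
  · -- then `|A|` is small
    have hle : a₀ ≤ p := by
      obtain ⟨⟨⟨v, hvA⟩, hvS⟩, hv⟩ := exists_prime_orderOf_dvd_card' (G := S.subgroupOf A) p hpa
      rw [orderOf_mk, orderOf_mk] at hv
      haveI : IsCyclic (S.subgroupOf A) := inferInstance
      obtain ⟨⟨⟨g, hgA⟩, hgS⟩, hg⟩ := IsCyclic.exists_generator (α := S.subgroupOf A)
      rw [ha₀, ← orderOf_eq_card_of_forall_mem_zpowers hg, orderOf_mk, orderOf_mk]
      rw [mem_subgroupOf] at hvS hgS
      rw [← Subgroup.orderOf_mk g hgS, ← MulEquiv.orderOf_eq e]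
      refine orderOf_le_of_pow_eq_one hp.pos ?_
      have hvo : orderOf (e ⟨v, hvS⟩) = p := by rw [MulEquiv.orderOf_eq, Subgroup.orderOf_mk, hv]
      refine pow_eq_one_of_commute (v := e ⟨v, hvS⟩) (fun h1 => ?_) ?_ ?_
      · rw [h1, orderOf_one] at hvo; exact hp.ne_one hvo.symm
      · conv_lhs => arg 2; rw [← hvo]
        exact pow_orderOf_eq_one _
      · rw [← map_mul, ← map_mul]
        exact congrArg e (Subtype.ext (h.comm_A hgA hvA))
    have hA : Nat.card A ≤ p * (2 * f) :=
      (Nat.le_of_dvd (Nat.mul_pos Nat.card_pos hi0) hSA).trans (Nat.mul_le_mul hle hile)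
    have hb := (h.card_le S hm).trans (Nat.mul_le_mul_right _ hA)
    rw [hS] at hb
    obtain ⟨k, hk⟩ : ∃ k, q + 1 = 2 * k := ⟨(q + 1) / 2, by omega⟩
    rw [show (q + 1) / 2 = k by omega] at hb
    obtain ⟨r, hr⟩ : ∃ r, q = r + 1 := ⟨q - 1, by omega⟩
    have hpf : ∀ j, 1 ≤ j → j + 2 ≤ p ^ j := by
      intro j hj
      induction j, hj using Nat.le_induction with
      | base => simpa using hp3
      | succ j _ ih =>
        rw [pow_succ]
        calc j + 1 + 2 ≤ (j + 2) * 2 := by omega
          _ ≤ p ^ j * p := Nat.mul_le_mul ih hp.two_le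
    have hfp : (f + 1) * p ≤ q := by
      rw [hF]
      calc (f + 1) * p ≤ p ^ (f - 1) * p := by
            refine Nat.mul_le_mul_right _ ?_
            have := hpf (f - 1) (by omega); omega
        _ = p ^ f := by rw [← pow_succ]; congr 1; omega
    rw [hr, Nat.add_sub_cancel] at hX
    have h1 : (r + 2) * ((r + 1) * r) ≤ 2 * (p * (2 * f) * (k * k)) := by
      rw [← hX]; exact Nat.mul_le_mul_left 2 hb
    rw [show r + 2 = 2 * k by omega] at h1
    have hk0 : 0 < k := by omega
    have h5 : (r + 1) * r ≤ 2 * p * f * k := by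
      refine Nat.le_of_mul_le_mul_left (?_ : 2 * k * ((r + 1) * r) ≤ 2 * k * (2 * p * f * k)) (by omega)
      calc 2 * k * ((r + 1) * r) ≤ _ := h1
        _ = 2 * k * (2 * p * f * k) := by ring
    have h6 : (f + 1) * r ≤ 2 * f * k := by
      refine Nat.le_of_mul_le_mul_left (?_ : p * ((f + 1) * r) ≤ p * (2 * f * k)) hp.pos
      calc p * ((f + 1) * r) = (f + 1) * p * r := by ring
        _ ≤ (r + 1) * r := Nat.mul_le_mul_right _ (by omega)
        _ ≤ 2 * p * f * k := h5
        _ = p * (2 * f * k) := by ring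
    have h7 : r ≤ 2 * f := by
      rw [show 2 * f * k = f * r + 2 * f by rw [mul_right_comm, show 2 * k = r + 2 by omega]; ring,
        add_mul, one_mul] at h6
      omega
    have := Nat.mul_le_mul_left (f + 1) hp3
    omega
  · -- then the `p`-part of `|B|` would be too large
    have hmain : Nat.card S ∣ a₀ * b₀ * i := by
      refine Nat.dvd_of_mul_dvd_mul_right hi0 ?_
      rw [S.card_mul_index, ← h.card_mul]
      calc Nat.card A * Nat.card B ∣ a₀ * i * (b₀ * i) := mul_dvd_mul hSA hSB
        _ = a₀ * b₀ * i * i := by ring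
    have hqS : p ^ f ∣ Nat.card S := by
      have h2 : p ^ f ∣ 2 * Nat.card X := by
        rw [hX, ← hF]; exact dvd_mul_of_dvd_right (dvd_mul_right _ _) _
      rw [hS]
      exact (Nat.Coprime.pow_left f ((Nat.coprime_primes hp Nat.prime_two).2 (by omega))).dvd_of_dvd_mul_left h2
    have hb : ¬ p * p ∣ b₀ := by
      intro hdv
      haveI : IsZGroup (S.subgroupOf B) := inferInstance
      obtain ⟨P⟩ : Nonempty (Sylow p (S.subgroupOf B)) := inferInstance
      obtain ⟨g, hg⟩ := IsCyclic.exists_generator (α := (P : Subgroup (S.subgroupOf B)))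
      have hP : p * p ∣ Nat.card (P : Subgroup (S.subgroupOf B)) := by
        rw [← pow_two] at hdv ⊢; exact P.pow_dvd_card_of_pow_dvd_card hdv
      rw [← orderOf_eq_card_of_forall_mem_zpowers hg, ← Subgroup.orderOf_coe, ← Subgroup.orderOf_coe,
        ← Subgroup.orderOf_coe] at hP
      rcases horders _ (mem_subgroupOf.1 (g : S.subgroupOf B).2) with h1 | h1 | h1
      · have := Nat.le_of_dvd hp.pos (hP.trans h1)
        have := Nat.mul_le_mul_right p hp3
        omega
      all_goals
        have h2 : p ∣ q := hF ▸ dvd_pow_self p (by omega)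
        have h4 := (Nat.dvd_trans (dvd_mul_right p p) (hP.trans h1))
      · have h5 : p ∣ q - 1 := h4.trans (Nat.div_dvd_of_dvd (by omega))
        have h6 : p ∣ 1 := by
          have := Nat.dvd_sub h2 h5; rwa [show q - (q - 1) = 1 by omega] at this
        exact hp.ne_one (Nat.dvd_one.1 h6)
      · have h5 : p ∣ q + 1 := h4.trans (Nat.div_dvd_of_dvd (by omega))
        exact hp.ne_one (Nat.dvd_one.1 ((Nat.dvd_add_right h2).1 h5))
    have hfi : p ^ (f - 1) ∣ i := by
      have h1 : p ^ f ∣ b₀ * i := by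
        have := hqS.trans hmain
        rw [mul_assoc] at this
        exact (Nat.Coprime.pow_left f ((Nat.Prime.coprime_iff_not_dvd hp).2 hpa)).dvd_of_dvd_mul_left this
      by_cases hpb : p ∣ b₀
      · obtain ⟨c, hc⟩ := hpb
        rw [hc, mul_assoc, show p ^ f = p * p ^ (f - 1) by rw [← pow_succ']; congr 1; omega] at h1
        have hpc : ¬ p ∣ c := fun hh => hb (hc ▸ mul_dvd_mul_left p hh)
        exact (Nat.Coprime.pow_left _ ((Nat.Prime.coprime_iff_not_dvd hp).2 hpc)).dvd_of_dvd_mul_left
          (Nat.dvd_of_mul_dvd_mul_left hp.pos h1)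
      · exact (pow_dvd_pow p (Nat.sub_le f 1)).trans
          ((Nat.Coprime.pow_left f ((Nat.Prime.coprime_iff_not_dvd hp).2 hpb)).dvd_of_dvd_mul_left h1)
    have hff : p ^ (f - 1) ∣ f :=
      (Nat.Coprime.pow_left _ ((Nat.coprime_primes hp Nat.prime_two).2 (by omega))).dvd_of_dvd_mul_left
        (hfi.trans hidx)
    have hle := Nat.le_of_dvd (by omega) hff
    have hgrow : ∀ j, 1 ≤ j → j + 2 ≤ p ^ j := by
      intro j hj
      induction j, hj using Nat.le_induction with
      | base => simpa using hp3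
      | succ j _ ih =>
        rw [pow_succ]
        calc j + 1 + 2 ≤ (j + 2) * 2 := by omega
          _ ≤ p ^ j * p := Nat.mul_le_mul ih hp.two_le
    have := hgrow (f - 1) (by omega)
    omega

end Setting

end CfsgLib.CyclicZFact
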