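import Mathlib
import Cfsg.Agent.Lib.CyclicZFact.Bicyclic

/-!
# Invariant subgroups meeting one factor trivially are generated by two elements

If `T = ⟨a⟩⟨d⟩` and an elementary abelian normal `V` complements `⟨a⟩`, then `|V| ≤ 4`, and
`|V| ≤ 2` when `a` centralises `V`.
-/

set_option autoImplicit false
set_option linter.style.haveILetI false

open Subgroup
open scoped Pointwise

namespace CfsgLib.CyclicZFact

universe u

/-- A split configuration. -/
structure Split {Q : Type*} [Group Q] (a d : Q) (V : Subgroup Q) : Prop where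
  isP : IsPGroup 2 Q
  fact : ∀ g : Q, ∃ i j : ℤ, g = a ^ i * d ^ j
  normal : V.Normal
  exp : ∀ v ∈ V, v * v = 1
  disj : V ⊓ zpowers a = ⊥
  prod : ∀ g : Q, ∃ v ∈ V, ∃ i : ℤ, g = v * a ^ i

namespace Split

variable {Q : Type*} [Group Q] [Finite Q] {a d : Q} {V : Subgroup Q}

theorem comm (h : Split a d V) {v w : Q} (hv : v ∈ V) (hw : w ∈ V) : v * w = w * v := by
  have h1 := h.exp _ (mul_mem hv hw)
  calc v * w = (v * w)⁻¹ := (inv_eq_of_mul_eq_one_right h1).symm
    _ = w⁻¹ * v⁻¹ := mul_inv_rev v w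
    _ = w * v := by
      rw [inv_eq_of_mul_eq_one_right (h.exp v hv), inv_eq_of_mul_eq_one_right (h.exp w hw)]

/-- If a `2^k`-th power of `d` lies in `⟨a⟩`, then `|V| ≤ 2^k`. -/
theorem card_le_of_pow_mem (h : Split a d V) {k : ℕ} (hk : d ^ 2 ^ k ∈ zpowers a) :
    Nat.card V ≤ 2 ^ k := by
  have hQ : Nat.card Q = Nat.card V * Nat.card (zpowers a) := by
    refine Nat.card_congr (Equiv.ofBijective (fun p : V × zpowers a => (p.1 : Q) * p.2) ⟨?_, ?_⟩)
      |>.symm.trans (Nat.card_prod _ _)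
    · rintro ⟨⟨v, hv⟩, ⟨x, hx⟩⟩ ⟨⟨w, hw⟩, ⟨y, hy⟩⟩ e
      have e' : v * x = w * y := e
      have hm : w⁻¹ * v ∈ V ⊓ zpowers a := by
        refine mem_inf.2 ⟨mul_mem (inv_mem hw) hv, ?_⟩
        rw [show w⁻¹ * v = y * x⁻¹ by
          calc w⁻¹ * v = w⁻¹ * (v * x) * x⁻¹ := by group
            _ = _ := by rw [e']; group]
        exact mul_mem hy (inv_mem hx)
      rw [h.disj, mem_bot, inv_mul_eq_one] at hm
      subst hm
      obtain rfl := mul_left_cancel e'
      rfl
    · intro g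
      obtain ⟨v, hv, i, rfl⟩ := h.prod g
      exact ⟨(⟨v, hv⟩, ⟨a ^ i, i, rfl⟩), rfl⟩
  have hle : Nat.card Q ≤ Nat.card (zpowers a) * 2 ^ k := by
    let f : zpowers a × Fin (2 ^ k) → Q := fun p => (p.1 : Q) * d ^ (p.2 : ℕ)
    have hf : Function.Surjective f := by
      intro g
      obtain ⟨i, j, rfl⟩ := h.fact g
      have hpos : (0 : ℤ) < ((2 ^ k : ℕ) : ℤ) := by positivity
      obtain ⟨r, hr⟩ := Int.eq_ofNat_of_zero_le (Int.emod_nonneg j hpos.ne')
      have hr' : r < 2 ^ k := by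
        have := Int.emod_lt_of_pos j hpos
        omega
      refine ⟨(⟨a ^ i * (d ^ 2 ^ k) ^ (j / ((2 ^ k : ℕ) : ℤ)),
        mul_mem (zpow_mem (mem_zpowers a) i) (zpow_mem hk _)⟩, ⟨r, hr'⟩), ?_⟩
      show a ^ i * (d ^ 2 ^ k) ^ (j / ((2 ^ k : ℕ) : ℤ)) * d ^ r = a ^ i * d ^ j
      rw [mul_assoc, ← zpow_natCast d (2 ^ k), ← zpow_natCast d r, ← zpow_mul, ← zpow_add, ← hr,
        Int.mul_ediv_add_emod]
    have := Nat.card_le_card_of_surjective f hf
    rwa [Nat.card_prod, Nat.card_fin] at this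
  rw [hQ, mul_comm] at hle
  exact Nat.le_of_mul_le_mul_left hle Nat.card_pos

/-- `v ↦ v · gvg⁻¹` on `V`. -/
def delta (h : Split a d V) (g : Q) : V →* V where
  toFun v := ⟨v * (g * v * g⁻¹), mul_mem v.2 (h.normal.conj_mem _ v.2 g)⟩
  map_one' := Subtype.ext (by simp)
  map_mul' v w := Subtype.ext (by
    simp only [Subgroup.coe_mul]
    calc (v : Q) * w * (g * (v * w) * g⁻¹)
        = v * (w * (g * v * g⁻¹)) * (g * w * g⁻¹) := by group
      _ = v * ((g * v * g⁻¹) * w) * (g * w * g⁻¹) := by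
        rw [h.comm w.2 (h.normal.conj_mem _ v.2 g)]
      _ = v * (g * v * g⁻¹) * (w * (g * w * g⁻¹)) := by group)

theorem delta_sq (h : Split a d V) (g : Q) (v : V) :
    h.delta (g * g) v = h.delta g (h.delta g v) := by
  apply Subtype.ext
  simp only [delta, MonoidHom.coe_mk, OneHom.coe_mk]
  have hw := h.exp _ (h.normal.conj_mem _ v.2 g)
  calc (v : Q) * (g * g * v * (g * g)⁻¹)
      = v * 1 * (g * g * v * (g * g)⁻¹) := by rw [mul_one]
    _ = v * ((g * v * g⁻¹) * (g * v * g⁻¹)) * (g * g * v * (g * g)⁻¹) := by rw [hw]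
    _ = _ := by group

theorem delta_two_pow (h : Split a d V) (g : Q) : ∀ (k : ℕ) (v : V),
    h.delta (g ^ 2 ^ k) v = (h.delta g)^[2 ^ k] v
  | 0, v => by simp
  | k + 1, v => by
    rw [pow_succ, mul_two, pow_add, delta_sq, delta_two_pow h g k, delta_two_pow h g k,
      ← Function.iterate_add_apply]

theorem mul_pow_two_pow (h : Split a d V) (g : Q) (v : V) : ∀ k : ℕ,
    ((v : Q) * g) ^ 2 ^ k = ((h.delta g)^[2 ^ k - 1] v : V) * g ^ 2 ^ k
  | 0 => by simp
  | k + 1 => by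
    rw [pow_succ, mul_two, pow_add, mul_pow_two_pow h g v k,
      show 2 ^ k + 2 ^ k - 1 = 2 ^ k + (2 ^ k - 1) by have := Nat.one_le_two_pow (n := k); omega,
      Function.iterate_add_apply, ← delta_two_pow h g k, pow_add g]
    simp only [delta, MonoidHom.coe_mk, OneHom.coe_mk]
    group

/-- Nilpotency: the `s`-th iterate vanishes when `|V| = 2^s`. -/
theorem iterate_eq_one (h : Split a d V) (g : Q) {s : ℕ} (hs : Nat.card V = 2 ^ s) (v : V) :
    (h.delta g)^[s] v = 1 := by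
  haveI : Fact (Nat.Prime 2) := ⟨Nat.prime_two⟩
  obtain ⟨e, he⟩ := h.isP g
  have hnil : ∀ w : V, (h.delta g)^[2 ^ e] w = 1 := fun w => by
    rw [← delta_two_pow h g e, he]
    exact Subtype.ext (by simpa [delta] using h.exp _ w.2)
  let R : ℕ → Subgroup V := fun m => (fun K => K.map (h.delta g))^[m] ⊤
  have hR : ∀ m w, (h.delta g)^[m] w ∈ R m := by
    intro m
    induction m with
    | zero => intro w; simp [R]
    | succ m ih =>
      intro w
      simp only [R, Function.iterate_succ', Function.comp_apply]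
      exact ⟨_, ih w, rfl⟩
  have hR' : ∀ m, ∀ y ∈ R m, ∃ w, (h.delta g)^[m] w = y := by
    intro m
    induction m with
    | zero => intro y _; exact ⟨y, rfl⟩
    | succ m ih =>
      intro y hy
      simp only [R, Function.iterate_succ', Function.comp_apply] at hy ⊢
      obtain ⟨z, hz, rfl⟩ := hy
      obtain ⟨w, rfl⟩ := ih z hz
      exact ⟨w, rfl⟩
  have hanti : ∀ m, R (m + 1) ≤ R m := by
    intro m
    induction m with
    | zero => simp [R]
    | succ m ih =>
      simp only [R, Function.iterate_succ', Function.comp_apply] at ih ⊢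
      exact Subgroup.map_mono ih
  have hstep : ∀ m, R m = ⊥ ∨ Nat.card (R m) * 2 ^ m ≤ Nat.card V := by
    intro m
    induction m with
    | zero => right; simp [R]
    | succ m ih =>
      rcases ih with ih | ih
      · exact Or.inl (le_bot_iff.1 (ih ▸ hanti m))
      by_cases heq : R (m + 1) = R m
      · left
        have hst : ∀ k, R (m + k) = R m := by
          intro k
          induction k with
          | zero => rfl
          | succ k ihk =>
            rw [← heq]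
            simp only [R, ← Nat.add_assoc, Function.iterate_succ', Function.comp_apply] at ihk ⊢
            rw [ihk]
        rw [eq_bot_iff, heq, ← hst (2 ^ e)]
        intro y hy
        obtain ⟨w, rfl⟩ := hR' _ y hy
        rw [Nat.add_comm, Function.iterate_add_apply, hnil, mem_bot]
      · right
        have hlt : R (m + 1) < R m := lt_of_le_of_ne (hanti m) heq
        obtain ⟨c, hc⟩ := Subgroup.card_dvd_of_le (hanti m)
        have hc2 : 2 ≤ c := by
          by_contra hc2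
          have : Nat.card (R m) ≤ Nat.card (R (m + 1)) := by
            rw [hc]
            calc Nat.card (R (m + 1)) * c ≤ Nat.card (R (m + 1)) * 1 :=
                  Nat.mul_le_mul_left _ (by omega)
              _ = _ := mul_one _
          exact heq (eq_of_le_of_card_ge (hanti m) this)
        refine le_trans ?_ ih
        rw [hc, pow_succ]
        calc Nat.card (R (m + 1)) * (2 ^ m * 2) = Nat.card (R (m + 1)) * 2 * 2 ^ m := by ring
          _ ≤ Nat.card (R (m + 1)) * c * 2 ^ m :=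
            Nat.mul_le_mul_right _ (Nat.mul_le_mul_left _ hc2)
  have hbot : R s = ⊥ := by
    rcases hstep s with e | e
    · exact e
    · rw [hs] at e
      exact eq_bot_of_card_le _ (Nat.le_of_mul_le_mul_right (show Nat.card (R s) * 2 ^ s ≤ 1 * 2 ^ s by simpa using e) (by positivity))
  simpa [hbot] using hR s v

/-- If `a` centralises `V` then `|V| ≤ 2`. -/
theorem card_le_two (h : Split a d V) (hc : ∀ v ∈ V, a * v * a⁻¹ = v) : Nat.card V ≤ 2 := by
  obtain ⟨v, hv, i, rfl⟩ := h.prod d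
  refine h.card_le_of_pow_mem (k := 1) ?_
  have hcv : Commute a v := mul_inv_eq_iff_eq_mul.1 (hc v hv)
  rw [pow_one, pow_two, show v * a ^ i * (v * a ^ i) = v * (a ^ i * v) * a ^ i by group,
    (hcv.zpow_left i).eq, ← mul_assoc, h.exp v hv, one_mul]
  exact mul_mem ⟨i, rfl⟩ ⟨i, rfl⟩

/-- `|V| ≤ 4`. -/
theorem card_le_four (h : Split a d V) : Nat.card V ≤ 4 := by
  haveI : Fact (Nat.Prime 2) := ⟨Nat.prime_two⟩
  obtain ⟨s, hs⟩ := (h.isP.to_subgroup V).exists_card_eq
  by_contra hlt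
  have h3 : 3 ≤ s := by
    by_contra h3
    exact hlt (hs ▸ Nat.pow_le_pow_right two_pos (show s ≤ 2 by omega))
  obtain ⟨k, rfl⟩ : ∃ k, s = k + 1 := ⟨s - 1, by omega⟩
  obtain ⟨v, hv, i, rfl⟩ := h.prod d
  have hks : k + 1 ≤ 2 ^ k - 1 := by
    have : ∀ m, 2 ≤ m → m + 2 ≤ 2 ^ m := by
      intro m hm
      induction m, hm using Nat.le_induction with
      | base => decide
      | succ m _ ih => rw [pow_succ]; omega
    have := this k (by omega)
    omega
  have hpow : (v * a ^ i) ^ 2 ^ k ∈ zpowers a := by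
    have e := mul_pow_two_pow h (a ^ i) ⟨v, hv⟩ k
    obtain ⟨r, hr⟩ := Nat.exists_eq_add_of_le hks
    rw [hr, Function.iterate_add_apply, iterate_eq_one h (a ^ i) hs] at e
    rw [e, coe_one, one_mul]
    exact pow_mem (zpow_mem (mem_zpowers a) i) _
  have := h.card_le_of_pow_mem hpow
  rw [hs, pow_succ] at this
  have : 0 < 2 ^ k := by positivity
  omega

end Split

section Invariant

variable {T : Type u} [Group T]

/-- The subgroup generated by the squares of the elements of `X`. -/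
def sqSub (X : Subgroup T) : Subgroup T := closure ((fun x => x * x) '' (X : Set T))

theorem sqSub_le (X : Subgroup T) : sqSub X ≤ X :=
  (closure_le _).2 (by rintro _ ⟨x, hx, rfl⟩; exact mul_mem hx hx)

theorem sq_mem_sqSub {X : Subgroup T} {x : T} (hx : x ∈ X) : x * x ∈ sqSub X :=
  subset_closure ⟨x, hx, rfl⟩

theorem conj_mem_sqSub {X : Subgroup T} {g : T} (hg : ∀ x ∈ X, g * x * g⁻¹ ∈ X) {y : T}
    (hy : y ∈ sqSub X) : g * y * g⁻¹ ∈ sqSub X := by
  induction hy using closure_induction with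
  | mem y hy =>
    obtain ⟨x, hx, rfl⟩ := hy
    rw [show g * (x * x) * g⁻¹ = g * x * g⁻¹ * (g * x * g⁻¹) by group]
    exact sq_mem_sqSub (hg x hx)
  | one => simp
  | mul y z _ _ hy hz =>
    rw [show g * (y * z) * g⁻¹ = g * y * g⁻¹ * (g * z * g⁻¹) by group]; exact mul_mem hy hz
  | inv y _ hy => rw [show g * y⁻¹ * g⁻¹ = (g * y * g⁻¹)⁻¹ by group]; exact inv_mem hy

/-- Elements generating modulo squares generate. -/
theorem eq_of_sup_sqSub [Finite T] (hP : IsPGroup 2 T) {X K : Subgroup T} (hK : K ≤ X)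
    (h : X ≤ K ⊔ sqSub X) : K = X := by
  haveI : Fact (Nat.Prime 2) := ⟨Nat.prime_two⟩
  refine le_antisymm hK ?_
  by_contra hn
  have hne : K.subgroupOf X ≠ ⊤ := fun e => hn (subgroupOf_eq_top.1 e)
  obtain ⟨M, hM, hKM⟩ := (eq_top_or_exists_le_coatom (K.subgroupOf X)).resolve_left hne
  have hidx := TwoGroups.SD.index_of_isCoatom (hP.to_subgroup X) hM
  apply hM.1
  have hle : K ⊔ sqSub X ≤ M.map X.subtype := by
    refine sup_le ?_ ((closure_le _).2 ?_)
    · intro k hk; exact ⟨⟨k, hK hk⟩, hKM (by simpa [mem_subgroupOf] using hk), rfl⟩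
    · rintro _ ⟨x, hx, rfl⟩
      exact ⟨⟨x, hx⟩ * ⟨x, hx⟩, mul_self_mem_of_index_two hidx _, rfl⟩
  refine eq_top_iff.2 fun x _ => ?_
  obtain ⟨y, hy, e⟩ := hle (h x.2)
  exact (Subtype.ext e : y = x) ▸ hy

/-- The core statement: an `a`-invariant subgroup meeting `⟨a⟩` trivially has small Frattini
quotient; it is generated by two elements of any generating set, and by one when `a` acts trivially
on that quotient. -/
theorem exists_gens [Finite T] {a b : T} (h : Bic a b) {X : Subgroup T}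
    (hX : ∀ x ∈ X, a * x * a⁻¹ ∈ X) (hdisj : X ⊓ zpowers a = ⊥) (S : Set T) (hS : closure S = X) :
    (∃ s ∈ insert 1 S, ∃ t ∈ insert 1 S, closure {s, t} = X) ∧
      ((∀ x ∈ X, a * x * a⁻¹ * x⁻¹ ∈ sqSub X) → ∃ s ∈ insert 1 S, zpowers s = X) := by
  classical
  haveI : Fact (Nat.Prime 2) := ⟨Nat.prime_two⟩
  set T₀ := zpowers a ⊔ X with hT₀
  have haT : a ∈ T₀ := mem_sup_left (mem_zpowers a)
  have hXT : X ≤ T₀ := le_sup_right
  have haX : a ∈ normalizer (X : Set T) := mem_normalizer_fintype hX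
  have hT₀n : T₀ ≤ normalizer (X : Set T) := sup_le (zpowers_le.2 haX) le_normalizer
  have hprod : ∀ g ∈ T₀, ∃ v ∈ X, ∃ i : ℤ, g = v * a ^ i := by
    intro g hg
    rw [hT₀, sup_comm, ← SetLike.mem_coe,
      coe_mul_of_right_le_normalizer_left X (zpowers a) (zpowers_le.2 haX)] at hg
    obtain ⟨v, hv, _, ⟨i, rfl⟩, rfl⟩ := hg
    exact ⟨v, hv, i, rfl⟩
  -- a generator of `⟨b⟩ ∩ T₀`
  haveI : IsCyclic (zpowers b ⊓ T₀ : Subgroup T) :=
    isCyclic_of_injective _ (inclusion_injective (inf_le_left : zpowers b ⊓ T₀ ≤ zpowers b))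
  obtain ⟨⟨d, hd⟩, hdgen⟩ := IsCyclic.exists_generator (α := (zpowers b ⊓ T₀ : Subgroup T))
  set N := (sqSub X).subgroupOf T₀ with hN
  haveI hNn : N.Normal := ⟨fun y hy g => by
    rw [hN, mem_subgroupOf] at hy ⊢
    exact conj_mem_sqSub (fun x hx => (mem_normalizer_iff.1 (hT₀n g.2) x).1 hx) hy⟩
  let q := QuotientGroup.mk' N
  set V := (X.subgroupOf T₀).map q with hV
  have hmemV : ∀ g : T₀, q g ∈ V → (g : T) ∈ X := by
    rintro g ⟨x, hx, e⟩
    have hm : x⁻¹ * g ∈ N := QuotientGroup.eq.1 e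
    rw [hN, mem_subgroupOf] at hm
    have := mul_mem (mem_subgroupOf.1 hx) (sqSub_le X hm)
    simpa using this
  have hsplit : Split (q ⟨a, haT⟩) (q ⟨d, hd.2⟩) V := by
    refine ⟨(h.isP.to_subgroup T₀).to_quotient N, fun g => ?_, ?_, ?_, ?_, fun g => ?_⟩
    · obtain ⟨⟨g, hg⟩, rfl⟩ := QuotientGroup.mk'_surjective N g
      obtain ⟨i, j, e⟩ := h.fact g
      have hbj : b ^ j ∈ zpowers b ⊓ T₀ := mem_inf.2 ⟨⟨j, rfl⟩, by
        rw [show b ^ j = (a ^ i)⁻¹ * g by rw [e]; group]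
        exact mul_mem (inv_mem (zpow_mem haT i)) hg⟩
      obtain ⟨m, hm⟩ := hdgen ⟨b ^ j, hbj⟩
      refine ⟨i, m, ?_⟩
      rw [← map_zpow, ← map_zpow, ← map_mul]
      refine congrArg q (Subtype.ext ?_)
      have hm' : d ^ m = b ^ j := congrArg Subtype.val hm
      simp [e, hm']
    · haveI : (X.subgroupOf T₀).Normal := normal_subgroupOf_of_le_normalizer hT₀n
      exact this.map q (QuotientGroup.mk'_surjective N)
    · rintro _ ⟨x, hx, rfl⟩
      rw [← map_mul]
      exact (QuotientGroup.eq_one_iff _).2 (sq_mem_sqSub (mem_subgroupOf.1 hx))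
    · refine eq_bot_iff.2 ?_
      rintro y ⟨hy, ⟨i, rfl⟩⟩
      have hy' : q (⟨a, haT⟩ ^ i) ∈ V := by rw [map_zpow]; exact hy
      have hai : a ^ i ∈ X ⊓ zpowers a := ⟨by simpa using hmemV _ hy', ⟨i, rfl⟩⟩
      rw [hdisj, mem_bot] at hai
      show q ⟨a, haT⟩ ^ i ∈ (⊥ : Subgroup (T₀ ⧸ N))
      rw [mem_bot, ← map_zpow, show (⟨a, haT⟩ : T₀) ^ i = 1 from Subtype.ext (by simpa using hai),
        map_one]
    · obtain ⟨⟨g, hg⟩, rfl⟩ := QuotientGroup.mk'_surjective N g
      obtain ⟨v, hv, i, e⟩ := hprod g hg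
      refine ⟨q ⟨v, hXT hv⟩, ⟨⟨v, hXT hv⟩, hv, rfl⟩, i, ?_⟩
      rw [← map_zpow, ← map_mul]
      exact congrArg q (Subtype.ext (by simp [e]))
  have hSX : ∀ s ∈ insert 1 S, s ∈ X := by
    rintro s (rfl | hs)
    · exact one_mem X
    · exact hS ▸ subset_closure hs
  have himg : ∀ {s : T} (hs : s ∈ insert 1 S), q ⟨s, hXT (hSX s hs)⟩ ∈ V := fun {s} hs =>
    ⟨⟨s, hXT (hSX s hs)⟩, hSX s hs, rfl⟩
  -- elements generating `V` generate `X`
  have hlift : ∀ (K : Subgroup T), K ≤ X → V ≤ (K.subgroupOf T₀).map q → K = X := by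
    intro K hK hVK
    refine eq_of_sup_sqSub h.isP hK fun x hx => ?_
    obtain ⟨k, hk, e⟩ := hVK ⟨⟨x, hXT hx⟩, hx, rfl⟩
    have hm : k⁻¹ * ⟨x, hXT hx⟩ ∈ N := QuotientGroup.eq.1 e
    rw [hN, mem_subgroupOf] at hm
    simpa using mul_mem (mem_sup_left (mem_subgroupOf.1 hk)) (mem_sup_right hm)
  have hgenV : ∀ W : Subgroup (T₀ ⧸ N), (∀ (s : T) (hs : s ∈ insert 1 S),
      q ⟨s, hXT (hSX s hs)⟩ ∈ W) → V ≤ W := by
    intro W hW y hy
    obtain ⟨x, hx, rfl⟩ := hy
    have key : ∀ z (hz : z ∈ closure S), q ⟨z, hXT (hS ▸ hz)⟩ ∈ W := by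
      intro z hz
      induction hz using closure_induction with
      | mem z hz => exact hW z (Or.inr hz)
      | one => exact one_mem W
      | mul y z hy' hz' hy hz =>
        show q (⟨y, hXT (hS ▸ hy')⟩ * ⟨z, hXT (hS ▸ hz')⟩) ∈ W
        rw [map_mul]; exact mul_mem hy hz
      | inv y hy' hy =>
        show q (⟨y, hXT (hS ▸ hy')⟩⁻¹) ∈ W
        rw [map_inv]; exact inv_mem hy
    exact key x (hS.symm ▸ mem_subgroupOf.1 hx)
  refine ⟨?_, fun hc => ?_⟩
  · have h4 := hsplit.card_le_four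
    by_cases hV1 : ∀ (s : T) (hs : s ∈ insert 1 S), q ⟨s, hXT (hSX s hs)⟩ = 1
    · refine ⟨1, Or.inl rfl, 1, Or.inl rfl, ?_⟩
      refine hlift _ ((closure_le _).2 (by simp [Set.insert_subset_iff])) ?_
      exact (hgenV ⊥ fun s hs => by rw [mem_bot]; exact hV1 s hs).trans bot_le
    push Not at hV1
    obtain ⟨s, hs, hs1⟩ := hV1
    set vs := q ⟨s, hXT (hSX s hs)⟩
    have hcard : ∀ (K : Subgroup (T₀ ⧸ N)) (vt : T₀ ⧸ N), vs ∈ K → vt ∈ K → vt ∈ V →
        vt ∉ zpowers vs → V ≤ K := by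
      intro K vt hsK htK htV hts
      have hle : closure {vs, vt} ≤ V := (closure_le _).2 (by
        simp [Set.insert_subset_iff, htV, himg hs, vs])
      have hz : zpowers vs < closure {vs, vt} := lt_of_le_of_ne
        (zpowers_le.2 (subset_closure (Or.inl rfl)))
        (fun e => hts (e ▸ subset_closure (Or.inr rfl)))
      have hd2 : 2 ≤ Nat.card (zpowers vs) := by
        rw [Nat.card_zpowers]
        have := orderOf_pos vs
        by_contra hh
        exact hs1 (orderOf_eq_one_iff.1 (by omega))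
      obtain ⟨c, hc'⟩ := card_dvd_of_le hz.le
      have hc2 : 2 ≤ c := by
        by_contra hh
        refine hz.ne (eq_of_le_of_card_ge hz.le ?_)
        rw [hc']
        calc _ ≤ Nat.card (zpowers vs) * 1 := Nat.mul_le_mul_left _ (by omega)
          _ = _ := mul_one _
      have : closure {vs, vt} = V := by
        refine eq_of_le_of_card_ge hle (h4.trans ?_)
        rw [hc']
        exact Nat.mul_le_mul hd2 hc2
      rw [← this, closure_le]
      simp [Set.insert_subset_iff, hsK, htK]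
    by_cases hV2 : ∀ (t : T) (ht : t ∈ insert 1 S), q ⟨t, hXT (hSX t ht)⟩ ∈ zpowers vs
    · refine ⟨s, hs, 1, Or.inl rfl, hlift _ ((closure_le _).2
        (by simp [Set.insert_subset_iff, hSX s hs])) ?_⟩
      refine (hgenV _ hV2).trans (zpowers_le.2 ⟨⟨s, hXT (hSX s hs)⟩, ?_, rfl⟩)
      exact subset_closure (Or.inl rfl)
    push Not at hV2
    obtain ⟨t, ht, hts⟩ := hV2
    refine ⟨s, hs, t, ht, hlift _ ((closure_le _).2
      (by simp [Set.insert_subset_iff, hSX s hs, hSX t ht])) ?_⟩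
    refine hcard _ _ ⟨_, ?_, rfl⟩ ⟨_, ?_, rfl⟩ (himg ht) hts
    · exact subset_closure (Or.inl rfl)
    · exact subset_closure (Or.inr rfl)
  · have h2 := hsplit.card_le_two (fun v hv => by
      obtain ⟨x, hx, rfl⟩ := hv
      rw [← map_inv, ← map_mul, ← map_mul, ← div_eq_one, ← map_div]
      refine (QuotientGroup.eq_one_iff _).2 ?_
      rw [hN, mem_subgroupOf]
      simpa [div_eq_mul_inv] using hc x (mem_subgroupOf.1 hx))
    by_cases hV1 : ∀ (s : T) (hs : s ∈ insert 1 S), q ⟨s, hXT (hSX s hs)⟩ = 1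
    · refine ⟨1, Or.inl rfl, hlift _ (zpowers_le.2 (one_mem X)) ?_⟩
      exact (hgenV ⊥ fun s hs => by rw [mem_bot]; exact hV1 s hs).trans bot_le
    push Not at hV1
    obtain ⟨s, hs, hs1⟩ := hV1
    refine ⟨s, hs, hlift _ (zpowers_le.2 (hSX s hs)) ?_⟩
    have hd2 : 2 ≤ Nat.card (zpowers (q ⟨s, hXT (hSX s hs)⟩)) := by
      rw [Nat.card_zpowers]
      have := orderOf_pos (q ⟨s, hXT (hSX s hs)⟩)
      by_contra hh
      exact hs1 (orderOf_eq_one_iff.1 (by omega))
    rw [← eq_of_le_of_card_ge (zpowers_le.2 (himg hs)) (h2.trans hd2), zpowers_le]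
    exact ⟨_, mem_zpowers s, rfl⟩

end Invariant

end CfsgLib.CyclicZFact
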