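import Mathlib
import Cfsg.Agent.Lib.CyclicZFact.Split
import Cfsg.Agent.Lib.CyclicZFact.Core

/-!
# The socle has dihedral Sylow 2-subgroups
-/

set_option autoImplicit false
set_option linter.style.haveILetI false

open Subgroup

namespace CfsgLib.CyclicZFact

universe u

open CfsgLib.GWCons.RankOneCover (DihedralClassification)

namespace Bic

variable {T : Type u} [Group T] [Finite T] {a b : T}

/-- An elementary abelian subgroup has order at most eight. -/
theorem card_le_eight (h : Bic a b) (ha : a ≠ 1) (hb : b ≠ 1) {E : Subgroup T}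
    (hE : ∀ x ∈ E, x * x = 1) : Nat.card E ≤ 8 := by
  classical
  by_cases h2 : a * a = 1 ∧ b * b = 1
  · have hpow : ∀ (g : T), g * g = 1 → ∀ i : ℤ, g ^ i = 1 ∨ g ^ i = g := fun g hg i => by
      rcases Int.even_or_odd i with ⟨k, rfl⟩ | ⟨k, rfl⟩
      · left; rw [zpow_add, ← (Commute.refl g).mul_zpow, hg, one_zpow]
      · right; rw [zpow_add, zpow_one, two_mul, zpow_add, ← (Commute.refl g).mul_zpow, hg,
          one_zpow, one_mul]
    let F : Finset T := {1, a, b, a * b}
    have hF : ∀ x : E, (x : T) ∈ F := by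
      intro x
      obtain ⟨i, j, e⟩ := h.fact x
      rcases hpow a h2.1 i with hi | hi <;> rcases hpow b h2.2 j with hj | hj <;> simp [F, e, hi, hj]
    calc Nat.card E ≤ Nat.card F := Nat.card_le_card_of_injective (fun x => (⟨_, hF x⟩ : F))
          (fun x y e => Subtype.ext (congrArg Subtype.val e :))
      _ ≤ 8 := by rw [Nat.card_eq_finsetCard]; exact Finset.card_le_four.trans (by norm_num)
  obtain ⟨u, hu, huu, hu1⟩ := exists_invol h.isP ha
  obtain ⟨w, hw, hww, hw1⟩ := exists_invol h.isP hb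
  obtain ⟨Ka, hKa, hbKa, haKa⟩ := h.exists_half ha
  obtain ⟨Kb, hKb, haKb, hbKb⟩ := h.swap.exists_half hb
  have hparA : ∀ i j : ℤ, a ^ i * b ^ j ∈ Ka ↔ Even i := mem_iff hKa hbKa haKa
  have hparB : ∀ i j : ℤ, a ^ i * b ^ j ∈ Kb ↔ Even j := fun i j => by
    rw [Kb.mul_mem_cancel_left (zpow_mem haKb i), zpow_mem_index_two hKb hbKb]
  let W : Finset T := {1, u, w, u * w}
  have hW : ∀ x, x * x = 1 → x ∈ Ka → x ∈ Kb → x ∈ W := by
    intro x hx hxa hxb
    obtain ⟨i, j, rfl⟩ := h.fact x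
    obtain ⟨e1, e2⟩ := h.sq_of_even_even ((hparA i j).1 hxa) ((hparB i j).1 hxb) hx
    have c1 : a ^ i = 1 ∨ a ^ i = u := or_iff_not_imp_left.2 fun hne =>
      invol_unique ⟨i, rfl⟩ hu e1 huu hne hu1
    have c2 : b ^ j = 1 ∨ b ^ j = w := or_iff_not_imp_left.2 fun hne =>
      invol_unique ⟨j, rfl⟩ hw e2 hww hne hw1
    rcases c1 with c1 | c1 <;> rcases c2 with c2 | c2 <;> simp [W, c1, c2]
  have main : ∀ (M N : Subgroup T), M.index = 2 → (∀ x ∈ E, x ∈ M → x ∈ N) →
      (∀ x, x * x = 1 → x ∈ M → x ∈ N → x ∈ W) → Nat.card E ≤ 8 := by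
    intro M N hM hMN hMW
    have h1 : (M.subgroupOf E).index ∣ 2 := by
      haveI := normal_of_index_eq_two hM
      exact hM ▸ Subgroup.relIndex_dvd_index_of_normal M E
    have h2 : Nat.card (M.subgroupOf E) ≤ 4 := by
      refine le_trans ?_ (Finset.card_le_four : W.card ≤ 4)
      rw [← Nat.card_eq_finsetCard]
      exact Nat.card_le_card_of_injective
        (fun x => (⟨((x : E) : T), hMW _ (hE _ x.1.2) (mem_subgroupOf.1 x.2)
          (hMN _ x.1.2 (mem_subgroupOf.1 x.2))⟩ : W))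
        (fun x y e => Subtype.ext (Subtype.ext (congrArg Subtype.val e :)))
    rw [← (M.subgroupOf E).card_mul_index]
    calc Nat.card (M.subgroupOf E) * (M.subgroupOf E).index ≤ 4 * 2 :=
          Nat.mul_le_mul h2 (Nat.le_of_dvd two_pos h1)
      _ = 8 := rfl
  by_cases h3 : ∀ x ∈ E, x ∈ Ka → x ∈ Kb
  · exact main Ka Kb hKa h3 hW
  · refine main Kb Ka hKb (fun x hxE hxb => ?_) (fun x hx h1 h2 => hW x hx h2 h1)
    by_contra hxa
    push Not at h3
    obtain ⟨y, hyE, hya, hyb⟩ := h3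
    obtain ⟨i, j, rfl⟩ := h.fact x
    obtain ⟨k, l, rfl⟩ := h.fact y
    refine h2 ⟨?_, h.sq_eq_one_of_involution ((hparA k l).1 hya)
      (Int.not_even_iff_odd.1 fun hh => hyb ((hparB k l).2 hh)) (hE _ hyE)⟩
    refine h.swap.sq_eq_one_of_involution (i := -j) (j := -i) ((hparB i j).1 hxb).neg
      (Int.not_even_iff_odd.1 fun hh => hxa ((hparA i j).2 (even_neg.1 hh))) ?_
    rw [_root_.zpow_neg, _root_.zpow_neg, ← mul_inv_rev, ← mul_inv_rev, hE _ hxE, inv_one]

end Bic

section Pair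

variable {T : Type u} [Group T]

theorem closure_pair_cases {s t : T} (hs : s * s = 1) (ht : t * t = 1) {x : T}
    (hx : x ∈ closure {s, t}) : ∃ k : ℤ, x = (s * t) ^ k ∨ x = (s * t) ^ k * s := by
  set r := s * t
  have hsr : ∀ k : ℤ, s * r ^ k = r ^ (-k) * s := fun k => by
    have h : s * r * s⁻¹ = r⁻¹ := by
      rw [mul_inv_rev, inv_eq_of_mul_eq_one_right hs, inv_eq_of_mul_eq_one_right ht,
        show s * (s * t) * s = (s * s) * t * s by group, hs, one_mul]
    rw [_root_.zpow_neg, ← inv_zpow, ← h, conj_zpow, inv_mul_cancel_right]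
  induction hx using closure_induction with
  | mem x hx =>
    rcases hx with rfl | rfl
    · exact ⟨0, Or.inr (by simp)⟩
    · refine ⟨-1, Or.inr ?_⟩
      rw [zpow_neg_one, mul_inv_rev, inv_eq_of_mul_eq_one_right ht, inv_mul_cancel_right]
  | one => exact ⟨0, Or.inl (zpow_zero r).symm⟩
  | mul x y _ _ hx hy =>
    obtain ⟨k, rfl | rfl⟩ := hx <;> obtain ⟨l, rfl | rfl⟩ := hy
    · exact ⟨k + l, Or.inl (zpow_add r k l).symm⟩
    · exact ⟨k + l, Or.inr (by rw [zpow_add, mul_assoc])⟩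
    · exact ⟨k - l, Or.inr (by rw [mul_assoc, hsr, sub_eq_add_neg, zpow_add, mul_assoc])⟩
    · exact ⟨k - l, Or.inl (by
        rw [mul_assoc, ← mul_assoc s, hsr, mul_assoc, hs, mul_one, sub_eq_add_neg, zpow_add])⟩
  | inv x _ hx =>
    obtain ⟨k, rfl | rfl⟩ := hx
    · exact ⟨-k, Or.inl (zpow_neg r k).symm⟩
    · exact ⟨k, Or.inr (by
        rw [mul_inv_rev, inv_eq_of_mul_eq_one_right hs, ← _root_.zpow_neg, hsr, neg_neg])⟩

/-- An elementary abelian subgroup of a dihedral group has order at most four. -/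
theorem card_le_four_of_pair [Finite T] {s t : T} (hs : s * s = 1) (ht : t * t = 1) {E : Subgroup T}
    (hle : E ≤ closure {s, t}) (hE : ∀ x ∈ E, x * x = 1) : Nat.card E ≤ 4 := by
  classical
  set C := zpowers (s * t)
  have hout : ∀ x ∈ E, x ∉ C → ∃ k : ℤ, x = (s * t) ^ k * s := fun x hx hC => by
    obtain ⟨k, e | e⟩ := closure_pair_cases hs ht (hle hx)
    · exact absurd ⟨k, e.symm⟩ hC
    · exact ⟨k, e⟩
  have hsc : ∀ k : ℤ, s * (s * t) ^ k * s ∈ C := fun k => by
    refine ⟨-k, ?_⟩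
    show (s * t) ^ (-k) = _
    have h : s * (s * t) * s⁻¹ = (s * t)⁻¹ := by
      rw [mul_inv_rev, inv_eq_of_mul_eq_one_right hs, inv_eq_of_mul_eq_one_right ht,
        show s * (s * t) * s = (s * s) * t * s by group, hs, one_mul]
    rw [_root_.zpow_neg, ← inv_zpow, ← h, conj_zpow, inv_eq_of_mul_eq_one_right hs]
  have hprod : ∀ x ∈ E, x ∉ C → ∀ y ∈ E, y ∉ C → x * y ∈ C := by
    intro x hx hxC y hy hyC
    obtain ⟨k, rfl⟩ := hout x hx hxC
    obtain ⟨l, rfl⟩ := hout y hy hyC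
    rw [show (s * t) ^ k * s * ((s * t) ^ l * s) = (s * t) ^ k * (s * (s * t) ^ l * s) by group]
    exact mul_mem ⟨k, rfl⟩ (hsc l)
  obtain ⟨v, hv⟩ : ∃ v : T, ∀ x ∈ E, x ∈ C → x = 1 ∨ x = v := by
    by_cases hex : ∃ v ∈ E, v ∈ C ∧ v ≠ 1
    · obtain ⟨v, hvE, hvC, hv1⟩ := hex
      exact ⟨v, fun x hx hxC => or_iff_not_imp_left.2 fun h1 =>
        invol_unique hxC hvC (hE x hx) (hE v hvE) h1 hv1⟩
    · push Not at hex
      exact ⟨1, fun x hx hxC => Or.inl (hex x hx hxC)⟩
  obtain ⟨e₀, he₀⟩ : ∃ e₀ : T, ∀ x ∈ E, x ∉ C → e₀ ∈ E ∧ e₀ ∉ C := by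
    by_cases hex : ∃ e₀ ∈ E, e₀ ∉ C
    · obtain ⟨e₀, h1, h2⟩ := hex
      exact ⟨e₀, fun _ _ _ => ⟨h1, h2⟩⟩
    · push Not at hex
      exact ⟨1, fun x hx hxC => absurd (hex x hx) hxC⟩
  let F : Finset T := {1, v, e₀, e₀ * v}
  have hF : ∀ x : E, (x : T) ∈ F := by
    rintro ⟨x, hx⟩
    by_cases hxC : x ∈ C
    · rcases hv x hx hxC with e | e <;> simp [F, e]
    · obtain ⟨h0, h0C⟩ := he₀ x hx hxC
      have key : x = e₀ * (e₀ * x) := by rw [← mul_assoc, hE _ h0, one_mul]
      show x ∈ F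
      rcases hv _ (mul_mem h0 hx) (hprod _ h0 h0C _ hx hxC) with e | e
      · rw [e] at key; simp [F, key]
      · rw [e] at key; simp [F, key]
  calc Nat.card E ≤ Nat.card F := Nat.card_le_card_of_injective (fun x => (⟨_, hF x⟩ : F))
        (fun x y e => Subtype.ext (congrArg Subtype.val e :))
    _ ≤ 4 := by rw [Nat.card_eq_finsetCard]; exact Finset.card_le_four

/-- In a dihedral group an element of order at least three has cyclic centralizer. -/
theorem mem_zpowers_of_pair {s t c d : T} (hs : s * s = 1) (ht : t * t = 1)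
    (hc : c ∈ closure {s, t}) (hd : d ∈ closure {s, t}) (hcc : c * c ≠ 1) (hcd : Commute c d) :
    c ∈ zpowers (s * t) ∧ d ∈ zpowers (s * t) := by
  set r := s * t
  have hinv : ∀ k : ℤ, s * r ^ k * s = r ^ (-k) := fun k => by
    have h : s * r * s⁻¹ = r⁻¹ := by
      rw [mul_inv_rev, inv_eq_of_mul_eq_one_right hs, inv_eq_of_mul_eq_one_right ht,
        show s * (s * t) * s = (s * s) * t * s by group, hs, one_mul]
    rw [_root_.zpow_neg, ← inv_zpow, ← h, conj_zpow, inv_eq_of_mul_eq_one_right hs]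
  have hout : ∀ k : ℤ, r ^ k * s * (r ^ k * s) = 1 := fun k => by
    rw [show r ^ k * s * (r ^ k * s) = r ^ k * (s * r ^ k * s) by group, hinv, zpow_neg,
      mul_inv_cancel]
  obtain ⟨k, rfl | rfl⟩ := closure_pair_cases hs ht hc
  swap
  · exact absurd (hout k) hcc
  refine ⟨⟨k, rfl⟩, ?_⟩
  obtain ⟨l, rfl | rfl⟩ := closure_pair_cases hs ht hd
  · exact ⟨l, rfl⟩
  exfalso
  apply hcc
  have e : r ^ k * (r ^ l * s) = r ^ l * s * r ^ k := hcd.eq
  have e2 : r ^ k * s = s * r ^ k := by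
    have := congrArg (fun z => (r ^ l)⁻¹ * z) e
    simp only [← mul_assoc] at this
    rw [show (r ^ l)⁻¹ * r ^ k * r ^ l = r ^ k by
      rw [mul_assoc, ((Commute.refl r).zpow_zpow k l).eq, inv_mul_cancel_left],
      inv_mul_cancel, one_mul] at this
    exact this
  calc r ^ k * r ^ k = r ^ k * (r ^ k * s) * s⁻¹ := by group
    _ = r ^ k * (s * r ^ k) * s⁻¹ := by rw [e2]
    _ = r ^ k * (s * r ^ k * s) := by rw [inv_eq_of_mul_eq_one_right hs]; group
    _ = 1 := by rw [hinv, zpow_neg, mul_inv_cancel]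

end Pair

/-- Every automorphism of a semidihedral group is trivial modulo squares. -/
theorem sd_auto {P : Type u} [Group P] [Finite P] {r : ℕ} {x y : P}
    (h : TwoGroups.SD.SD P r x y) (φ : MulAut P) (g : P) : φ g * g⁻¹ ∈ sqSub (⊤ : Subgroup P) := by
  have hr := TwoGroups.SD.r_pos h
  haveI : (sqSub (⊤ : Subgroup P)).Normal :=
    ⟨fun n hn g => conj_mem_sqSub (fun z _ => mem_top _) hn⟩
  let q := QuotientGroup.mk' (sqSub (⊤ : Subgroup P))
  have hq2 : ∀ z : P, q z * q z = 1 := fun z => by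
    rw [← map_mul]; exact (QuotientGroup.eq_one_iff _).2 (sq_mem_sqSub (mem_top z))
  have hqe : ∀ (z : P) (k : ℤ), Even k → q z ^ k = 1 := by
    rintro z _ ⟨l, rfl⟩
    rw [zpow_add, ← (Commute.refl (q z)).mul_zpow, hq2, one_zpow]
  obtain ⟨k, hk⟩ : ∃ k : ℤ, φ x = x ^ k := by
    obtain ⟨k, e | e⟩ := h.gen (φ x)
    · exact ⟨k, e⟩
    · have ho : orderOf (x ^ k * y) = 8 * r := by rw [← e, MulEquiv.orderOf_eq, h.ordx]
      rcases Int.even_or_odd k with hk | hk
      · rw [TwoGroups.SD.orderOf_xy_even h hk] at ho; omega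
      · rw [TwoGroups.SD.orderOf_xy_odd h hk] at ho; omega
  have hkodd : Odd k := by
    by_contra hk'
    obtain ⟨l, rfl⟩ := Int.not_odd_iff_even.1 hk'
    have h1 : φ (x ^ (4 * r : ℤ)) = 1 := by
      rw [map_zpow, hk, ← zpow_mul, TwoGroups.SD.zpow_x_eq_one h]
      exact ⟨l, by ring⟩
    rw [map_eq_one_iff φ φ.injective, TwoGroups.SD.zpow_x_eq_one h] at h1
    have := Int.le_of_dvd (by positivity) h1
    omega
  obtain ⟨l, hl, hly⟩ : ∃ l : ℤ, Even l ∧ φ y = x ^ l * y := by
    obtain ⟨l, e | e⟩ := h.gen (φ y)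
    · exfalso
      have hxo : orderOf (x ^ (4 * r : ℤ)) = 2 := by
        have h8 : x ^ (4 * r : ℤ) * x ^ (4 * r : ℤ) = 1 := by
          rw [← zpow_add, TwoGroups.SD.zpow_x_eq_one h]; exact ⟨1, by ring⟩
        refine orderOf_eq_prime (by rw [pow_two, h8]) fun e1 => ?_
        have := Int.le_of_dvd (by positivity) ((TwoGroups.SD.zpow_x_eq_one h).1 e1)
        omega
      haveI : Fact (Nat.Prime 2) := ⟨Nat.prime_two⟩
      have := invol_unique (a := x) (x := φ y) (y := φ (x ^ (4 * r : ℤ)))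
        (mem_zpowers_iff.2 ⟨l, e.symm⟩) (by rw [map_zpow, hk]; exact zpow_mem (zpow_mem (mem_zpowers x) k) _)
        (by rw [← map_mul, TwoGroups.SD.yy h, map_one])
        (by rw [← map_mul, ← pow_two, ← hxo, pow_orderOf_eq_one, map_one])
        (fun e1 => by
          rw [map_eq_one_iff φ φ.injective] at e1
          exact h.notMem (e1 ▸ one_mem _))
        (fun e1 => by
          rw [map_eq_one_iff φ φ.injective] at e1
          rw [e1, orderOf_one] at hxo; omega)
      exact h.notMem ⟨(4 * r : ℤ), (φ.injective this).symm⟩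
    · refine ⟨l, ?_, e⟩
      by_contra hl
      have := TwoGroups.SD.orderOf_xy_odd h (Int.not_even_iff_odd.1 hl)
      rw [← e, MulEquiv.orderOf_eq, h.ordy] at this
      omega
  have hqx : q (φ x) = q x := by
    obtain ⟨m, rfl⟩ := hkodd
    rw [hk, map_zpow, zpow_add, zpow_one, hqe _ _ (even_two_mul m), one_mul]
  have hqy : q (φ y) = q y := by rw [hly, map_mul, map_zpow, hqe _ _ hl, one_mul]
  have : q (φ g) = q g := by
    obtain ⟨m, rfl | rfl⟩ := h.gen g
    · rw [map_zpow, map_zpow, hqx, map_zpow]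
    · rw [map_mul, map_mul, map_zpow, map_zpow, hqx, hqy, map_mul, map_zpow]
  refine (QuotientGroup.eq_one_iff _).1 ?_
  show q (φ g * g⁻¹) = 1
  rw [map_mul, map_inv, this, mul_inv_cancel]

variable {G : Type u} [Group G] [Finite G]

/-- The socle avoiding the involution of one factor has dihedral Sylow 2-subgroups. -/
theorem dihedral_of_avoid {T : Sylow 2 G} {a b u : (T : Subgroup G)} (h : Bic a b)
    (hu : u ∈ zpowers a) (huu : u * u = 1) (hu1 : u ≠ 1) (S : Subgroup G) [S.Normal]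
    [IsSimpleGroup S] (hS : ¬ IsMulCommutative S) (huS : (u : G) ∉ S) :
    ∃ (P : Sylow 2 S) (n : ℕ), 2 ≤ n ∧ Nonempty ((P : Subgroup S) ≃* DihedralGroup n) := by
  classical
  haveI : Fact (Nat.Prime 2) := ⟨Nat.prime_two⟩
  set X : Subgroup (T : Subgroup G) := S.subgroupOf (T : Subgroup G) with hX
  haveI hXn : X.Normal := by rw [hX]; infer_instance
  have hXa : ∀ x ∈ X, a * x * a⁻¹ ∈ X := fun x hx => hXn.conj_mem x hx a
  have hdisj : X ⊓ zpowers a = ⊥ := by
    refine eq_bot_iff.2 fun x hx => ?_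
    obtain ⟨hxX, hxa⟩ := mem_inf.1 hx
    rw [mem_bot]
    by_contra hx1
    obtain ⟨v, hv, hvv, hv1⟩ := Bic.exists_invol h.isP hx1
    have := invol_unique (zpowers_le.2 hxa hv) hu hvv huu hv1 hu1
    exact huS (mem_subgroupOf.1 (this ▸ zpowers_le.2 hxX hv))
  obtain ⟨P, hP⟩ := CfsgLib.Struct76.exists_sylow_inf_normal T S
  let e : (P : Subgroup S) ≃* X :=
    { toFun := fun x => ⟨⟨((x : S) : G), ((SetLike.ext_iff.1 hP (x : S)).1 x.2 :)⟩, (x : S).2⟩
      invFun := fun x => ⟨⟨((x : (T : Subgroup G)) : G), x.2⟩, by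
        rw [hP]; exact (x : (T : Subgroup G)).2⟩
      left_inv := fun _ => rfl
      right_inv := fun _ => rfl
      map_mul' := fun _ _ => rfl }
  -- the subgroup generated by the involutions
  set Ω : Set (T : Subgroup G) := {x | x ∈ X ∧ x * x = 1}
  have hΩX : closure Ω ≤ X := (closure_le _).2 fun x hx => hx.1
  have hΩa : ∀ x ∈ closure Ω, a * x * a⁻¹ ∈ closure Ω := by
    intro x hx
    induction hx using closure_induction with
    | mem x hx =>
      refine subset_closure ⟨hXa x hx.1, ?_⟩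
      rw [show a * x * a⁻¹ * (a * x * a⁻¹) = a * (x * x) * a⁻¹ by group, hx.2, mul_one, mul_inv_cancel]
    | one => simp
    | mul x y _ _ hx hy =>
      rw [show a * (x * y) * a⁻¹ = a * x * a⁻¹ * (a * y * a⁻¹) by group]; exact mul_mem hx hy
    | inv x _ hx => rw [show a * x⁻¹ * a⁻¹ = (a * x * a⁻¹)⁻¹ by group]; exact inv_mem hx
  obtain ⟨⟨s, hs, t, ht, hst⟩, -⟩ := exists_gens h hΩa
    (le_bot_iff.1 (hdisj ▸ inf_le_inf_right _ hΩX)) Ω rfl
  have hs2 : s * s = 1 := by
    rcases hs with rfl | hs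
    · exact one_mul 1
    · exact hs.2
  have ht2 : t * t = 1 := by
    rcases ht with rfl | ht
    · exact one_mul 1
    · exact ht.2
  have h2 : Cfsg.PRankLE 2 2 S := by
    intro E _ hE2
    obtain ⟨Q, hQ⟩ := IsPGroup.exists_le_sylow (p := 2) (P := E) (fun x => ⟨1, Subtype.ext (by
      simpa using hE2 x x.2)⟩)
    obtain ⟨g, hg⟩ := MulAction.exists_smul_eq S Q P
    have hφT : ∀ x : E, MulAut.conj g (x : S) ∈ (P : Subgroup S) := fun x => by
      rw [← hg]; exact ⟨x, hQ x.2, rfl⟩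
    let φ : E →* (T : Subgroup G) := (X.subtype.comp e.toMonoidHom).comp
      { toFun := fun x => (⟨MulAut.conj g (x : S), hφT x⟩ : (P : Subgroup S))
        map_one' := Subtype.ext (by simp)
        map_mul' := fun x y => Subtype.ext (by simp) }
    have hφ : Function.Injective φ := fun x y he =>
      Subtype.ext ((MulAut.conj g).injective (congrArg Subtype.val (e.injective (Subtype.ext he))))
    have hφ2 : ∀ z ∈ φ.range, z * z = 1 := by
      rintro _ ⟨x, rfl⟩
      rw [← map_mul, show x * x = 1 from Subtype.ext (by simpa [pow_two] using hE2 x x.2), map_one]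
    have := card_le_four_of_pair hs2 ht2 (E := φ.range) (by
      rintro z ⟨x, rfl⟩
      rw [hst]
      exact subset_closure ⟨(e _).2, hφ2 _ ⟨x, rfl⟩⟩) hφ2
    rwa [← Nat.card_congr (MonoidHom.ofInjective hφ).toEquiv] at this
  haveI : Fintype (GaloisField 2 4) := Fintype.ofFinite _
  have hF : Fintype.card (GaloisField 2 4) = 16 := by
    rw [← Nat.card_eq_fintype_card, GaloisField.card 2 4 (by norm_num)]; rfl
  obtain ⟨Q⟩ : Nonempty (Sylow 2 (Cfsg.PSU 3 (GaloisField 2 4) 4)) := inferInstance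
  have hgen := exists_gens h hXa hdisj (X : Set (T : Subgroup G)) (closure_eq X)
  rcases CfsgLib.RankTwoTypes.sylow_types_of_even hS (even_of_simple hS) h2 P hF Q with
    ⟨n, hn, he⟩ | hqd | hwr | ⟨⟨f⟩⟩
  · exact ⟨P, n, hn, he⟩
  · exfalso
    obtain ⟨r, x, y, hsd⟩ := TwoGroups.SD.exists_sd hqd
    have htriv : ∀ z ∈ X, a * z * a⁻¹ * z⁻¹ ∈ sqSub X := by
      intro z hz
      have := sd_auto hsd ((e.trans (MulAut.conjNormal a)).trans e.symm) (e.symm ⟨z, hz⟩)
      have key : ∀ p ∈ sqSub (⊤ : Subgroup (P : Subgroup S)),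
          ((e p : X) : (T : Subgroup G)) ∈ sqSub X := by
        intro p hp
        induction hp using closure_induction with
        | mem p hp =>
          obtain ⟨p, -, rfl⟩ := hp
          rw [map_mul, Subgroup.coe_mul]
          exact sq_mem_sqSub (e p).2
        | one => simp
        | mul p q _ _ hp hq => rw [map_mul, Subgroup.coe_mul]; exact mul_mem hp hq
        | inv p _ hp => rw [map_inv, InvMemClass.coe_inv]; exact inv_mem hp
      simpa [MulAut.conjNormal_apply] using key _ this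
    obtain ⟨c, hc, hcX⟩ := hgen.2 htriv
    haveI : IsCyclic (P : Subgroup S) := by
      haveI : IsCyclic X := hcX ▸ inferInstance
      exact e.isCyclic.2 inferInstance
    have h4 : x ^ (4 * r : ℤ) * x ^ (4 * r : ℤ) = 1 := by
      rw [← zpow_add, TwoGroups.SD.zpow_x_eq_one hsd]; exact ⟨1, by ring⟩
    have hxo : orderOf (x ^ (4 * r : ℤ)) = 2 := orderOf_eq_prime (by rw [pow_two, h4]) fun e1 => by
      have := Int.le_of_dvd (by have := TwoGroups.SD.r_pos hsd; positivity)
        ((TwoGroups.SD.zpow_x_eq_one hsd).1 e1)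
      have := TwoGroups.SD.r_pos hsd
      omega
    exact hsd.notMem ⟨(4 * r : ℤ), (CfsgLib.PSL2.eq_of_orderOf_two hsd.ordy hxo).symm⟩
  · exfalso
    obtain ⟨n, x, y, z, hW⟩ := TwoGroups.WR.exists_wr hwr
    let f : (P : Subgroup S) →* (T : Subgroup G) := X.subtype.comp e.toMonoidHom
    have hf : Function.Injective f := X.subtype_injective.comp e.injective
    have hin : ∀ p : (P : Subgroup S), p * p = 1 → f p ∈ closure {s, t} := fun p hp => by
      rw [hst]
      exact subset_closure ⟨(e p).2, by rw [← map_mul, hp, map_one]⟩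
    set H : ℤ := 2 ^ (n - 1)
    have hH : (2 : ℤ) ^ n = 2 * H := by
      rw [← pow_succ']; congr 1; have := hW.two_le; omega
    have hH2 : 2 ≤ H := le_trans (by norm_num) (pow_le_pow_right₀ (by norm_num : (1 : ℤ) ≤ 2)
      (show 1 ≤ n - 1 by have := hW.two_le; omega))
    set c := TwoGroups.WR.el x y 1 (-1)
    set d := TwoGroups.WR.el x y H 0
    have hcmem : f c ∈ closure {s, t} := by
      have h1 : f (c * z) ∈ closure {s, t} := hin _ (by
        rw [TwoGroups.WR.el_z_mul_el_z hW]; simp [TwoGroups.WR.el_zero])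
      have := mul_mem h1 (inv_mem (hin z (TwoGroups.WR.zz hW)))
      rwa [← map_inv, ← map_mul, mul_inv_cancel_right] at this
    have hd2 : d * d = 1 := by
      rw [TwoGroups.WR.el_mul hW, TwoGroups.WR.el_eq_one hW, hH]
      exact ⟨⟨1, by ring⟩, ⟨0, by ring⟩⟩
    have hcc : f c * f c ≠ 1 := by
      rw [← map_mul, map_ne_one_iff f hf, Ne, TwoGroups.WR.el_mul hW, TwoGroups.WR.el_eq_one hW, hH]
      rintro ⟨h1, -⟩
      have := Int.le_of_dvd (by norm_num) h1
      omega
    have hcd : Commute (f c) (f d) := Commute.map (show c * d = d * c by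
      rw [TwoGroups.WR.el_mul hW, TwoGroups.WR.el_mul hW, add_comm 1 H, add_comm (-1 : ℤ) 0]) f
    obtain ⟨hc', hd'⟩ := mem_zpowers_of_pair hs2 ht2 hcmem (hin d hd2) hcc hcd
    have hd1 : f d ≠ 1 := by
      rw [map_ne_one_iff f hf, Ne, TwoGroups.WR.el_eq_one hW, hH]
      rintro ⟨h1, -⟩
      have := Int.le_of_dvd (by omega) h1
      omega
    have he : c ^ H * c ^ H = 1 := by
      rw [← zpow_add, TwoGroups.WR.el_zpow hW, TwoGroups.WR.el_eq_one hW, hH]
      exact ⟨⟨1, by ring⟩, ⟨-1, by ring⟩⟩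
    have he1 : f (c ^ H) ≠ 1 := by
      rw [map_ne_one_iff f hf, Ne, TwoGroups.WR.el_zpow hW, TwoGroups.WR.el_eq_one hW, hH]
      rintro ⟨h1, -⟩
      have := Int.le_of_dvd (by omega) h1
      omega
    have := hf (invol_unique hd' (by rw [map_zpow]; exact zpow_mem hc' _)
      (by rw [← map_mul, hd2, map_one]) (by rw [← map_mul, he, map_one]) hd1 he1)
    rw [TwoGroups.WR.el_zpow hW, hW.eq_iff, hH] at this
    obtain ⟨-, k, hk⟩ := this
    rcases le_or_gt k 0 with hk0 | hk0
    · nlinarith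
    · nlinarith
  · exfalso
    haveI : Fintype (GaloisField 2 4) := Fintype.ofFinite _
    have hF' : Fintype.card (GaloisField 2 4) = 4 ^ 2 := by
      rw [← Nat.card_eq_fintype_card, GaloisField.card 2 4 (by norm_num)]; rfl
    let _ := CfsgLib.InvCharThree.hermGroup hF' (show Even 4 by decide)
    obtain ⟨g⟩ := CfsgLib.InvCharThree.herm_equiv_sylow_psu hF' (show Even 4 by decide) (n := 2) rfl Q
    have hH := CfsgLib.InvCharSixtyFour.hermLike_of_equiv (g.trans f.symm)
      (CfsgLib.InvCharSixtyFour.hermLike_herm hF' (show Even 4 by decide))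
    obtain ⟨p, hp, q, hq, hpq⟩ := hgen.1
    have hXm : ∀ {p}, p ∈ insert 1 (X : Set (T : Subgroup G)) → p ∈ X := by
      rintro p (rfl | hp)
      · exact one_mem X
      · exact hp
    set Z := center (P : Subgroup S)
    let π := QuotientGroup.mk' Z
    set p' := e.symm ⟨p, hXm hp⟩
    set q' := e.symm ⟨q, hXm hq⟩
    have hπ2 : ∀ w, π w * π w = 1 := fun w => by
      rw [← map_mul]; exact (QuotientGroup.eq_one_iff _).2 (hH.sq_mem w)
    have hπc : ∀ v w, π v * π w = π w * π v := fun v w => by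
      have h1 := inv_eq_of_mul_eq_one_right (hπ2 (v * w))
      rw [map_mul, mul_inv_rev, inv_eq_of_mul_eq_one_right (hπ2 v),
        inv_eq_of_mul_eq_one_right (hπ2 w)] at h1
      exact h1.symm
    have hall : ∀ w, π w = 1 ∨ π w = π p' ∨ π w = π q' ∨ π w = π p' * π q' := by
      intro w
      have hw : ((e w : X) : (T : Subgroup G)) ∈ closure {p, q} := hpq.symm ▸ (e w).2
      have key : ∀ z ∈ closure {p, q}, ∃ hz : z ∈ X, π (e.symm ⟨z, hz⟩) ∈
          closure {π p', π q'} := by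
        intro z hz
        induction hz using closure_induction with
        | mem z hz =>
          rcases hz with rfl | rfl
          · exact ⟨hXm hp, subset_closure (Or.inl rfl)⟩
          · exact ⟨hXm hq, subset_closure (Or.inr rfl)⟩
        | one => exact ⟨one_mem X, by
            rw [show (⟨1, one_mem X⟩ : X) = 1 from rfl, map_one, map_one]; exact one_mem _⟩
        | mul y z _ _ hy hz =>
          obtain ⟨hy, hy'⟩ := hy
          obtain ⟨hz, hz'⟩ := hz
          refine ⟨mul_mem hy hz, ?_⟩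
          rw [show (⟨y * z, mul_mem hy hz⟩ : X) = ⟨y, hy⟩ * ⟨z, hz⟩ from rfl, map_mul, map_mul]
          exact mul_mem hy' hz'
        | inv y _ hy =>
          obtain ⟨hy, hy'⟩ := hy
          refine ⟨inv_mem hy, ?_⟩
          rw [show (⟨y⁻¹, inv_mem hy⟩ : X) = ⟨y, hy⟩⁻¹ from rfl, map_inv, map_inv]
          exact inv_mem hy'
      obtain ⟨hz, hz'⟩ := key _ hw
      rw [show e.symm ⟨_, hz⟩ = w from e.symm_apply_apply w] at hz'
      obtain ⟨k, hk⟩ := closure_pair_cases (hπ2 p') (hπ2 q') hz'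
      have hr : π p' * π q' * (π p' * π q') = 1 := by rw [← map_mul]; exact hπ2 _
      rcases Int.even_or_odd k with ⟨m, rfl⟩ | ⟨m, rfl⟩
      · rw [zpow_add, ← (Commute.refl (π p' * π q')).mul_zpow, hr, one_zpow, one_mul] at hk
        rcases hk with hk | hk
        · exact Or.inl hk
        · exact Or.inr (Or.inl hk)
      · rw [zpow_add, zpow_one, two_mul, zpow_add, ← (Commute.refl (π p' * π q')).mul_zpow, hr,
          one_zpow, one_mul] at hk
        rcases hk with hk | hk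
        · exact Or.inr (Or.inr (Or.inr hk))
        · refine Or.inr (Or.inr (Or.inl ?_))
          rw [hk, hπc p' q', mul_assoc, hπ2, mul_one]
    let F : Finset ((P : Subgroup S) ⧸ Z) := {1, π p', π q', π p' * π q'}
    have hcard : Nat.card ((P : Subgroup S) ⧸ Z) ≤ 4 := by
      have hin : ∀ w : (P : Subgroup S) ⧸ Z, w ∈ F := fun w => by
        obtain ⟨w, rfl⟩ := QuotientGroup.mk'_surjective Z w
        rcases hall w with e1 | e1 | e1 | e1 <;> simp only [π] at e1 <;> simp [F, π, e1]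
      calc Nat.card ((P : Subgroup S) ⧸ Z) ≤ Nat.card F :=
            Nat.card_le_card_of_injective (fun w => (⟨w, hin w⟩ : F))
              (fun x y e => (congrArg Subtype.val e :))
        _ ≤ 4 := by rw [Nat.card_eq_finsetCard]; exact Finset.card_le_four
    have := card_eq_card_quotient_mul_card_subgroup Z
    rw [hH.card, hH.card_center] at this
    have := Nat.mul_le_mul_right 4 hcard
    omega

namespace Setting

variable {A B : Subgroup G}

/-- The socle: simple, with trivial centralizer and dihedral Sylow 2-subgroups. -/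
theorem exists_dihedral_socle (hDC : DihedralClassification.{u}) (h : Setting A B) :
    ∃ S : Subgroup G, S.Normal ∧ IsSimpleGroup S ∧ ¬ IsMulCommutative S ∧
      centralizer (S : Set G) = ⊥ ∧
      ∃ (P : Sylow 2 S) (n : ℕ), 2 ≤ n ∧ Nonempty ((P : Subgroup S) ≃* DihedralGroup n) := by
  classical
  haveI : Fact (Nat.Prime 2) := ⟨Nat.prime_two⟩
  obtain ⟨T, a, b, hbic, haA, hbB, ha1, hb1, -, -⟩ := h.exists_sylow
  haveI := h.nontrivial
  obtain ⟨S, hSn, hSs, hSc, hC⟩ := exists_simple h.rad fun E _ hE => by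
    obtain ⟨Q, hQ⟩ := IsPGroup.exists_le_sylow (p := 2) (P := E) (fun x => ⟨1, Subtype.ext (by
      simpa using hE x x.2)⟩)
    obtain ⟨g, hg⟩ := MulAction.exists_smul_eq G Q T
    have hT : ∀ x : E, MulAut.conj g (x : G) ∈ (T : Subgroup G) := fun x => by
      rw [← hg]; exact ⟨x, hQ x.2, rfl⟩
    let φ : E →* (T : Subgroup G) := ((MulAut.conj g).toMonoidHom.comp E.subtype).codRestrict _ hT
    have hφ : Function.Injective φ := fun x y e =>
      Subtype.ext ((MulAut.conj g).injective (congrArg Subtype.val e :))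
    have := hbic.card_le_eight ha1 hb1 (E := φ.range) (by
      rintro _ ⟨x, rfl⟩
      rw [← map_mul, show x * x = 1 from Subtype.ext (by simpa [pow_two] using hE x x.2), map_one])
    rwa [← Nat.card_congr (MonoidHom.ofInjective hφ).toEquiv] at this
  haveI := hSn
  haveI := hSs
  refine ⟨S, hSn, hSs, hSc, hC, ?_⟩
  obtain ⟨u, hu, huu, hu1⟩ := Bic.exists_invol hbic.isP ha1
  obtain ⟨w, hw, hww, hw1⟩ := Bic.exists_invol hbic.isP hb1
  by_cases huS : (u : G) ∈ S
  swap
  · exact dihedral_of_avoid hbic hu huu hu1 S hSc huS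
  by_cases hwS : (w : G) ∈ S
  swap
  · exact dihedral_of_avoid hbic.swap hw hww hw1 S hSc hwS
  exfalso
  -- the involutions of both factors lie in `S`
  haveI := h.cyc
  haveI := h.zg
  have hord : ∀ {x : (T : Subgroup G)}, x * x = 1 → x ≠ 1 → orderOf (x : G) = 2 := fun {x} h1 h2 =>
    orderOf_eq_prime (by rw [pow_two, ← Subgroup.coe_mul, h1, OneMemClass.coe_one])
      (fun e => h2 (Subtype.ext e))
  have hpow : ∀ {x y : (T : Subgroup G)} {H : Subgroup G}, (x : G) ∈ H → y ∈ zpowers x →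
      (y : G) ∈ H := by
    rintro x y H hx ⟨i, rfl⟩
    simpa using zpow_mem hx i
  have hAinv : ∀ v ∈ A, orderOf v = 2 → v ∈ S := fun v hv hv2 => by
    have := CfsgLib.PSL2.eq_of_orderOf_two (a := (⟨v, hv⟩ : A)) (b := ⟨u, hpow haA hu⟩)
      (by rwa [orderOf_mk]) (by rw [orderOf_mk]; exact hord huu hu1)
    rw [show v = (u : G) from congrArg Subtype.val this]; exact huS
  have hBinv : ∀ v ∈ B, orderOf v = 2 → v ∈ S := fun v hv hv2 => by
    have two : ∀ z : B, orderOf z = 2 → IsPGroup 2 (zpowers z) := fun z hz =>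
      IsPGroup.of_card (n := 1) (by rw [Nat.card_zpowers, hz, pow_one])
    have hv' : orderOf (⟨v, hv⟩ : B) = 2 := by rwa [orderOf_mk]
    have hw' : orderOf (⟨w, hpow hbB hw⟩ : B) = 2 := by rw [orderOf_mk]; exact hord hww hw1
    obtain ⟨Q1, hQ1⟩ := (two _ hv').exists_le_sylow
    obtain ⟨Q2, hQ2⟩ := (two _ hw').exists_le_sylow
    obtain ⟨g, hg⟩ := MulAction.exists_smul_eq B Q1 Q2
    have hm : g * ⟨v, hv⟩ * g⁻¹ ∈ (Q2 : Subgroup B) := by
      rw [← hg]; exact ⟨⟨v, hv⟩, hQ1 (mem_zpowers _), rfl⟩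
    have := CfsgLib.PSL2.eq_of_orderOf_two (a := (⟨_, hm⟩ : (Q2 : Subgroup B)))
      (b := ⟨_, hQ2 (mem_zpowers _)⟩)
      (by rw [orderOf_mk, ← MulAut.conj_apply, MulEquiv.orderOf_eq, hv'])
      (by rw [orderOf_mk]; exact hw')
    have e : (g : G) * v * (g : G)⁻¹ = w := by
      simpa using congrArg (fun z : (Q2 : Subgroup B) => ((z : B) : G)) this
    have e' : v = (g : G)⁻¹ * (w : G) * (g : G)⁻¹⁻¹ := by rw [← e]; group
    rw [e']
    exact hSn.conj_mem _ hwS _
  set G₁ := (S ⊔ A) ⊓ (S ⊔ B) with hG₁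
  have hSG : S ≤ G₁ := le_inf le_sup_left le_sup_left
  have hdec : ∀ g ∈ G₁, ∀ x ∈ A, ∀ y ∈ B, g = x * y → x ∈ G₁ ∧ y ∈ G₁ := by
    intro g hg x hx y hy e
    obtain ⟨hgA, hgB⟩ := mem_inf.1 hg
    have hyA : y ∈ S ⊔ A := by
      rw [show y = x⁻¹ * g by rw [e]; group]; exact mul_mem (inv_mem (mem_sup_right hx)) hgA
    have hxB : x ∈ S ⊔ B := by
      rw [show x = g * y⁻¹ by rw [e]; group]; exact mul_mem hgB (inv_mem (mem_sup_right hy))
    exact ⟨mem_inf.2 ⟨mem_sup_right hx, hxB⟩, mem_inf.2 ⟨hyA, mem_sup_right hy⟩⟩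
  set A₁ := A.subgroupOf G₁
  set B₁ := B.subgroupOf G₁
  set S₁ := S.subgroupOf G₁ with hS₁
  haveI hS₁n : S₁.Normal := by rw [hS₁]; infer_instance
  haveI hS₁s : IsSimpleGroup S₁ := (subgroupOfEquivOfLe hSG).isSimpleGroup
  have hS₁c : ¬ IsMulCommutative S₁ := fun hh => hSc ⟨⟨fun x y =>
    (subgroupOfEquivOfLe hSG).symm.injective (by rw [map_mul, map_mul]; exact mul_comm' _ _)⟩⟩
  have hset : Setting A₁ B₁ := by
    refine ⟨?_, ?_, fun g => ?_, ?_, fun hs => ?_⟩
    · exact isCyclic_of_injective ((G₁.subtype.comp A₁.subtype).codRestrict A fun x => x.2)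
        (fun x y e => Subtype.ext (Subtype.ext (congrArg Subtype.val e :)))
    · exact IsZGroup.of_injective (f := (G₁.subtype.comp B₁.subtype).codRestrict B fun x => x.2)
        (fun x y e => Subtype.ext (Subtype.ext (congrArg Subtype.val e :)))
    · obtain ⟨x, hx, y, hy, e⟩ := h.prod g
      obtain ⟨hx1, hy1⟩ := hdec g g.2 x hx y hy e
      exact ⟨⟨x, hx1⟩, hx, ⟨y, hy1⟩, hy, Subtype.ext e⟩
    · set R := Cfsg.solvableRadical G₁
      haveI : R.Normal := CfsgLib.Structure.solvableRadical_normal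
      have hRS : R ⊓ S₁ = ⊥ := by
        rcases (inferInstance : (R.subgroupOf S₁).Normal).eq_bot_or_eq_top with e | e
        · rw [← subgroupOf_map_subtype, e, Subgroup.map_bot]
        · exfalso
          have hs : Group.IsSolvable S₁ := CfsgLib.Structure.isSolvable_of_le
            (subgroupOf_eq_top.1 e) CfsgLib.Structure.isSolvable_solvableRadical
          haveI := isPerfect_of_simple hS₁c
          exact Group.IsPerfect.not_isSolvable S₁ hs
      refine eq_bot_iff.2 fun r hr => ?_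
      have hrc : (r : G) ∈ centralizer (S : Set G) := mem_centralizer_iff.2 fun s hs =>
        congrArg Subtype.val (commute_of_normal_of_disjoint S₁ R hS₁n inferInstance
          (disjoint_iff.2 (by rw [inf_comm]; exact hRS)) ⟨s, hSG hs⟩ r hs hr).eq
      rw [hC, mem_bot] at hrc
      exact mem_bot.2 (Subtype.ext hrc)
    · haveI := isPerfect_of_simple hS₁c
      exact Group.IsPerfect.not_isSolvable S₁ inferInstance
  obtain ⟨T₁, a₁, b₁, hbic₁, ha₁A, hb₁B, ha₁1, hb₁1, hKA, hKB⟩ := hset.exists_sylow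
  obtain ⟨u₁, hu₁, hu₁u, hu₁1⟩ := Bic.exists_invol hbic₁.isP ha₁1
  obtain ⟨w₁, hw₁, hw₁w, hw₁1⟩ := Bic.exists_invol hbic₁.isP hb₁1
  have hord₁ : ∀ {x : (T₁ : Subgroup G₁)}, x * x = 1 → x ≠ 1 → orderOf ((x : G₁) : G) = 2 :=
    fun {x} h1 h2 => by
      rw [Subgroup.orderOf_coe]
      exact orderOf_eq_prime (by rw [pow_two, ← Subgroup.coe_mul, h1, OneMemClass.coe_one])
        (fun e => h2 (Subtype.ext e))
  have hu₁S : (u₁ : G₁) ∈ S₁ := by
    have hm : (u₁ : G₁) ∈ A₁ := by
      obtain ⟨i, hi⟩ := hu₁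
      rw [← hi]; simpa using zpow_mem ha₁A i
    exact hAinv _ hm (hord₁ hu₁u hu₁1)
  have hw₁S : (w₁ : G₁) ∈ S₁ := by
    have hm : (w₁ : G₁) ∈ B₁ := by
      obtain ⟨i, hi⟩ := hw₁
      rw [← hi]; simpa using zpow_mem hb₁B i
    exact hBinv _ hm (hord₁ hw₁w hw₁1)
  have h2A : 2 ∣ Nat.card A₁ := by
    have hm : (u₁ : G₁) ∈ A₁ := by
      obtain ⟨i, hi⟩ := hu₁
      rw [← hi]; simpa using zpow_mem ha₁A i
    rw [← hord₁ hu₁u hu₁1, Subgroup.orderOf_coe, ← Subgroup.orderOf_mk (u₁ : G₁) hm]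
    exact orderOf_dvd_natCard _
  obtain ⟨K, hK, hAK⟩ := hset.exists_index_two h2A
  haveI := normal_of_index_eq_two hK
  have hS₁K : S₁ ≤ K := by
    rcases (inferInstance : (K.subgroupOf S₁).Normal).eq_bot_or_eq_top with e | e
    · exfalso
      apply hS₁c
      let π : S₁ →* G₁ ⧸ K := (QuotientGroup.mk' K).comp S₁.subtype
      have hπ : Function.Injective π := (injective_iff_map_eq_one π).2 fun x hx => by
        have hm : x ∈ K.subgroupOf S₁ := mem_subgroupOf.2 ((QuotientGroup.eq_one_iff _).1 hx)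
        rwa [e, mem_bot] at hm
      haveI : IsCyclic (G₁ ⧸ K) := isCyclic_of_prime_card (p := 2) hK
      haveI := isCyclic_of_injective π hπ
      exact IsCyclic.isMulCommutative
    · exact subgroupOf_eq_top.1 e
  have hBK : ¬ B₁ ≤ K := by
    intro hle
    have htop : (⊤ : Subgroup G₁) ≤ K := by
      intro g _
      have hg := (mem_inf.1 g.2).2
      rw [← SetLike.mem_coe, Subgroup.normal_mul] at hg
      obtain ⟨s, hs, y, hy, e⟩ := hg
      have hyG : y ∈ G₁ := by
        rw [show y = s⁻¹ * g by rw [← e]; group]; exact mul_mem (inv_mem (hSG hs)) g.2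
      rw [show g = ⟨s, hSG hs⟩ * ⟨y, hyG⟩ from Subtype.ext e.symm]
      exact mul_mem (hS₁K hs) (hle hy)
    rw [top_le_iff.1 htop, index_top] at hK
    omega
  have c : Core T₁ a₁ b₁ u₁ w₁ K :=
    { bic := hbic₁
      index := hK
      ha := fun hh => hAK (hKA K hK hh)
      hb := fun hh => hBK (hKB K hK hh)
      hu := hu₁
      hw := hw₁
      uu := hu₁u
      ww := hw₁w
      u1 := hu₁1
      w1 := hw₁1
      uK := hS₁K hu₁S
      wK := hS₁K hw₁S
      disj := fun x hx y hy e => by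
        obtain ⟨i, rfl⟩ := hx
        obtain ⟨j, rfl⟩ := hy
        exact Subtype.ext (hset.eq_one_of_conj (by simpa using zpow_mem ha₁A i)
          (by simpa using zpow_mem hb₁B j) e)
      rad := hset.rad }
  exact c.false_of_mem hDC S₁ hS₁c hS₁K hu₁S hw₁S

end Setting

end CfsgLib.CyclicZFact
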