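import Mathlib
import Cfsg.Agent.Lib.CyclicZFact.Structure
import Cfsg.Agent.Lib.CyclicZFact.Psl

/-!
# A nonsolvable product of a cyclic group and a Z-group is `PGL₂(p)` modulo its solvable radical

Conditional on the classification of perfect groups with dihedral Sylow 2-subgroups.
-/

set_option autoImplicit false
set_option linter.style.haveILetI false

open Subgroup

namespace CfsgLib.CyclicZFact

universe u

open CfsgLib.GWCons.RankOneCover (DihedralClassification)

variable {G : Type u} [Group G] [Finite G]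

/-- The factors act with even order. -/
theorem Setting.two_dvd {A B : Subgroup G} (h : Setting A B) : 2 ∣ Nat.card A := by
  obtain ⟨T, a, b, -, haA, -, ha1, -, -, -⟩ := h.exists_sylow
  haveI : Fact (Nat.Prime 2) := ⟨Nat.prime_two⟩
  obtain ⟨k, hk⟩ := IsPGroup.iff_orderOf.1 T.isPGroup' a
  have hk0 : k ≠ 0 := fun e => ha1 (orderOf_eq_one_iff.1 (by rw [hk, e, pow_zero]))
  refine (dvd_pow_self 2 hk0).trans ?_
  rw [← hk, ← Subgroup.orderOf_coe, ← Subgroup.orderOf_mk (a : G) haA]
  exact orderOf_dvd_natCard _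

theorem Setting.pgl {A B : Subgroup G} (hDC : DihedralClassification.{u}) (h : Setting A B) :
    ∃ (F : Type) (_ : Field F) (_ : Fintype F) (p : ℕ), p.Prime ∧ 3 < p ∧ Fintype.card F = p ∧
      Nonempty (G ≃* (GL (Fin 2) F ⧸ center (GL (Fin 2) F))) := by
  obtain ⟨S, hSn, hSs, hSc, hC, P, n, hn, he⟩ := h.exists_dihedral_socle hDC
  haveI := hSn
  haveI := hSs
  rcases dihedral_cases hDC hSc P hn he with ⟨F, i1, i2, hodd, h3, ⟨e⟩⟩ | ⟨⟨e⟩⟩
  · letI := i1
    letI := i2
    obtain ⟨p, hp⟩ := h.pgl_of_psl h.two_dvd S hSc hC hodd h3 e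
    exact ⟨F, i1, i2, p, hp⟩
  · exact (h.not_alt_seven S hC e).elim

theorem main (hDC : DihedralClassification.{u}) (hG : ¬ Group.IsSolvable G) (A B : Subgroup G)
    (hA : IsCyclic A) (hB : ∀ (q : ℕ) [Fact q.Prime] (Q : Sylow q B), IsCyclic (Q : Subgroup B))
    (hAB : ∀ g : G, ∃ a ∈ A, ∃ b ∈ B, g = a * b) (R : Subgroup G) [R.Normal]
    (hRs : Group.IsSolvable R) (hRmax : ∀ N : Subgroup G, N.Normal → Group.IsSolvable N → N ≤ R) :
    ∃ (F : Type) (_ : Field F) (_ : Fintype F) (p : ℕ), p.Prime ∧ 3 < p ∧ Fintype.card F = p ∧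
      Nonempty ((G ⧸ R) ≃* (GL (Fin 2) F ⧸ center (GL (Fin 2) F))) := by
  let π := QuotientGroup.mk' R
  have hπ : Function.Surjective π := QuotientGroup.mk'_surjective R
  haveI hz : IsZGroup B := ⟨fun q hq Q => haveI := Fact.mk hq; hB q Q⟩
  have h : Setting (A.map π) (B.map π) := by
    refine ⟨?_, ?_, fun g => ?_, ?_, fun hs => hG ?_⟩
    · exact isCyclic_of_surjective (π.subgroupMap A) (π.subgroupMap_surjective A)
    · exact IsZGroup.of_surjective (f := π.subgroupMap B) (π.subgroupMap_surjective B)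
    · obtain ⟨g, rfl⟩ := hπ g
      obtain ⟨a, ha, b, hb, rfl⟩ := hAB g
      exact ⟨π a, mem_map_of_mem π ha, π b, mem_map_of_mem π hb, map_mul π a b⟩
    · refine le_bot_iff.1 (sSup_le fun N hN => ?_)
      haveI := hN.1
      haveI := hN.2
      let f : N.comap π →* N := π.subgroupComap N
      have hs : Group.IsSolvable (N.comap π) := by
        refine Group.isSolvable_of_ker_le_range
          (Subgroup.inclusion (fun x hx => ?_ : R ≤ N.comap π)) f ?_
        · rw [mem_comap, show π x = 1 from (QuotientGroup.eq_one_iff x).2 hx]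
          exact one_mem N
        · intro x hx
          have hxR : (x : G) ∈ R := (QuotientGroup.eq_one_iff _).1 (congrArg Subtype.val hx)
          exact ⟨⟨x, hxR⟩, Subtype.ext rfl⟩
      have hle := hRmax _ inferInstance hs
      intro x hx
      obtain ⟨y, rfl⟩ := hπ x
      exact mem_bot.2 ((QuotientGroup.eq_one_iff y).2 (hle (mem_comap.2 hx)))
    · exact (Group.isSolvable_iff_subgroup_quotient R).2 ⟨hRs, hs⟩
  exact h.pgl hDC

end CfsgLib.CyclicZFact
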